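import Cfsg.Agent.Lib.Invol.NoOff.Basic
import Cfsg.Agent.Lib.Invol.FusionTheorem

/-!
Uniqueness of the maximal subgroup over a family of 2-subgroups.
-/

set_option autoImplicit false
set_option linter.unusedSectionVars false
set_option linter.style.haveILetI false

namespace Cfsg.Agent.Invol.NoOff

open Subgroup
open scoped Pointwise

universe u

variable {G : Type u} [Group G] [Finite G]

theorem exists_sylowIn_ge {H D : Subgroup G} (hDH : D ≤ H) (hD : IsPGroup 2 D) :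
    ∃ R, D ≤ R ∧ Grp.IsSylowIn 2 R H := by
  obtain ⟨Q, hQ⟩ := (hD.comap_subtype (K := H) : IsPGroup 2 (D.subgroupOf H)).exists_le_sylow
  exact ⟨(Q : Subgroup H).map H.subtype, fun d hd => ⟨⟨d, hDH hd⟩, hQ hd, rfl⟩,
    Grp.isSylowIn_iff.mpr ⟨Q, rfl⟩⟩

theorem lt_inf_norm {T R : Subgroup G} (hR : IsPGroup 2 R) (h : T < R) :
    T < R ⊓ normalizer (T : Set G) := by
  haveI : Fact (Nat.Prime 2) := ⟨Nat.prime_two⟩
  haveI : Group.IsNilpotent R := hR.isNilpotent
  have hlt : T.subgroupOf R < ⊤ :=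
    lt_top_iff_ne_top.mpr fun e => h.not_ge (Subgroup.subgroupOf_eq_top.mp e)
  have h2 := Group.normalizerCondition_of_isNilpotent (T.subgroupOf R) hlt
  obtain ⟨⟨x, hxR⟩, hxn, hxT⟩ := SetLike.exists_of_lt h2
  refine lt_of_le_of_ne (le_inf h.le Subgroup.le_normalizer) fun e => hxT ?_
  rw [Subgroup.mem_subgroupOf]
  rw [← Subgroup.subgroupOf_normalizer_eq h.le] at hxn
  rw [e]
  exact ⟨hxR, hxn⟩

theorem sylowIn_of_between {T M P : Subgroup G} (hT : Grp.IsSylowIn 2 T P) (hTM : T ≤ M)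
    (hMP : M ≤ P) : Grp.IsSylowIn 2 T M :=
  ⟨hTM, hT.2.1, fun h => hT.2.2 (h.trans (Dvd.intro _ (Subgroup.relIndex_mul_relIndex T M P hTM hMP)))⟩

theorem conj_into {T M Q : Subgroup G} (hT : Grp.IsSylowIn 2 T M) (hQM : Q ≤ M)
    (hQ : IsPGroup 2 Q) : ∃ m ∈ M, MulAut.conj m • Q ≤ T := by
  haveI : Fact (Nat.Prime 2) := ⟨Nat.prime_two⟩
  obtain ⟨d, hd, hdQ⟩ := exists_conj_into hT hQM hQ
  refine ⟨d, hd, fun x hx => ?_⟩
  have := hdQ _ (mem_cj.mp hx)
  simpa [mul_assoc] using this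

theorem cj_le_iff {M : Subgroup G} {m : G} (hm : m ∈ M) {H : Subgroup G} :
    MulAut.conj m • H ≤ M ↔ H ≤ M := by
  conv_lhs => rw [← Subgroup.conj_smul_eq_self_of_mem hm]
  exact Subgroup.pointwise_smul_le_pointwise_smul_iff

theorem cj_lt_of_mem {P : Subgroup G} {m : G} (hm : m ∈ P) {H : Subgroup G} (h : H < P) :
    MulAut.conj m • H < P := by
  refine lt_of_le_of_ne ((cj_le_iff hm).mpr h.le) fun e => h.ne ?_
  have h2 : MulAut.conj m • H = MulAut.conj m • P := e.trans (Subgroup.conj_smul_eq_self_of_mem hm).symm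
  exact MulAction.injective (β := Subgroup G) _ h2

/-- A subgroup containing a member of the family and different from `P` lies in `M`. -/
theorem le_of_mem_le {P M T : Subgroup G} (hMP : M ≤ P) (hTM : T ≤ M)
    (hT : Grp.IsSylowIn 2 T P) (mem : Subgroup G → Prop)
    (hconj : ∀ g ∈ P, ∀ A, mem A → mem (MulAut.conj g • A)) (h2 : ∀ A, mem A → IsPGroup 2 A)
    (hnn : ∀ D ≤ T, (∃ A, mem A ∧ A ≤ D) → ¬ P ≤ normalizer (D : Set G))
    (hbase : ∀ D ≤ T, (∃ A, mem A ∧ A ≤ D) → ∀ H < P, Grp.IsSylowIn 2 D H →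
      (∀ D', D < D' → D' ≤ T → ∀ H' < P, D' ≤ H' → H' ≤ M) → H ≤ M)
    {A : Subgroup G} (hA : mem A) (hAM : A ≤ M) {H : Subgroup G} (hH : H < P) (hAH : A ≤ H) :
    H ≤ M := by
  haveI : Fact (Nat.Prime 2) := ⟨Nat.prime_two⟩
  have key : ∀ (n : ℕ) (D : Subgroup G), Nat.card T - Nat.card D = n → D ≤ T →
      (∃ A, mem A ∧ A ≤ D) → ∀ H < P, D ≤ H → H ≤ M := by
    intro n
    induction n using Nat.strong_induction_on with
    | _ n ih =>
    intro D hn hDT hm H hH hDH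
    have hDp : IsPGroup 2 D := hT.2.1.to_le hDT
    have hup : ∀ D', D < D' → D' ≤ T → ∀ H' < P, D' ≤ H' → H' ≤ M := fun D' hlt hD'T H' hH' hD'H' => by
      obtain ⟨A, hA, hAD⟩ := hm
      refine ih _ ?_ D' rfl hD'T ⟨A, hA, hAD.trans hlt.le⟩ H' hH' hD'H'
      have h1 : Nat.card D < Nat.card D' := by
        by_contra hge
        exact hlt.ne (Subgroup.eq_of_le_of_card_ge hlt.le (not_lt.mp hge))
      have h2 := Subgroup.card_le_of_le hD'T
      omega
    obtain ⟨R, hDR, hR⟩ := exists_sylowIn_ge hDH hDp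
    rcases hDR.eq_or_lt with rfl | hlt
    · exact hbase D hDT hm H hH hR hup
    set R1 := R ⊓ normalizer (D : Set G)
    have hR1 : D < R1 := lt_inf_norm hR.2.1 hlt
    set N1 := P ⊓ normalizer (D : Set G)
    have hN1 : N1 < P := lt_of_le_of_ne inf_le_left fun e => hnn D hDT hm (e ▸ inf_le_right)
    have hR1N : R1 ≤ N1 := inf_le_inf_right _ (hR.1.trans hH.le)
    rcases hDT.eq_or_lt with rfl | hDlt
    · -- `D = T` is a Sylow subgroup
      obtain ⟨m, hm', hle⟩ := conj_into hT (hR1N.trans inf_le_left) (hR.2.1.to_le inf_le_left)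
      have hc := Subgroup.card_le_of_le hle
      rw [card_cj] at hc
      exact absurd (Subgroup.eq_of_le_of_card_ge hR1.le hc) hR1.ne
    have hT1 : D < T ⊓ normalizer (D : Set G) := lt_inf_norm hT.2.1 hDlt
    have hN1M : N1 ≤ M := hup _ hT1 inf_le_left N1 hN1
      (le_inf (inf_le_left.trans hT.1) inf_le_right)
    obtain ⟨m, hmM, hle⟩ := conj_into (sylowIn_of_between hT hTM hMP) (hR1N.trans hN1M)
      (hR.2.1.to_le inf_le_left)
    have hcard : Nat.card D < Nat.card ↥(MulAut.conj m • R1) := by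
      rw [card_cj]
      by_contra hge
      exact hR1.ne (Subgroup.eq_of_le_of_card_ge hR1.le (not_lt.mp hge))
    obtain ⟨A, hA, hAD⟩ := hm
    have h3 : MulAut.conj m • H ≤ M := by
      refine ih _ ?_ _ rfl hle ⟨_, hconj m (hMP hmM) A hA,
        Subgroup.pointwise_smul_le_pointwise_smul_iff.mpr (hAD.trans hR1.le)⟩ _
        (cj_lt_of_mem (hMP hmM) hH)
        (Subgroup.pointwise_smul_le_pointwise_smul_iff.mpr (inf_le_left.trans hR.1))
      have h4 := Subgroup.card_le_of_le hle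
      omega
    exact (cj_le_iff hmM).mp h3
  obtain ⟨m, hm, hle⟩ := conj_into (sylowIn_of_between hT hTM hMP) hAM (h2 A hA)
  exact (cj_le_iff hm).mp (key _ _ rfl hle ⟨_, hconj m (hMP hm) A hA, le_rfl⟩ _
    (cj_lt_of_mem (hMP hm) hH) (Subgroup.pointwise_smul_le_pointwise_smul_iff.mpr hAH))

/-- Frattini's argument inside a subgroup. -/
theorem frattini_in {P K D : Subgroup G} (hKP : K ≤ P) (hKn : P ≤ normalizer (K : Set G))
    (hD : Grp.IsSylowIn 2 D K) {x : G} (hx : x ∈ P) :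
    ∃ k ∈ K, ∃ n ∈ P, n ∈ normalizer (D : Set G) ∧ x = k * n := by
  haveI : Fact (Nat.Prime 2) := ⟨Nat.prime_two⟩
  obtain ⟨k, hk, hke⟩ := hD.conj (hD.smul (Grp.mem_normalizer_iff_smul.mp (hKn hx)))
  refine ⟨k, hk, k⁻¹ * x, P.mul_mem (P.inv_mem (hKP hk)) hx, ?_, by group⟩
  rw [Grp.mem_normalizer_iff_smul, map_mul, mul_smul, ← hke, smul_smul, ← map_mul, inv_mul_cancel,
    map_one, one_smul]

theorem le_of_frattini {P K D M : Subgroup G} (hKP : K ≤ P) (hKn : P ≤ normalizer (K : Set G))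
    (hD : Grp.IsSylowIn 2 D K) (hK : K ≤ M) (hN : P ⊓ normalizer (D : Set G) ≤ M) : P ≤ M := by
  intro x hx
  obtain ⟨k, hk, n, hn, hnD, rfl⟩ := frattini_in hKP hKn hD hx
  exact M.mul_mem (hK hk) (hN ⟨hn, hnD⟩)

theorem sylowIn_inf_normal {P K T : Subgroup G} (hKP : K ≤ P) (hKn : P ≤ normalizer (K : Set G))
    (hT : Grp.IsSylowIn 2 T P) : Grp.IsSylowIn 2 (T ⊓ K) K := by
  haveI : Fact (Nat.Prime 2) := ⟨Nat.prime_two⟩
  obtain ⟨Q, hQ⟩ := Grp.isSylowIn_iff.mp hT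
  haveI : (K.subgroupOf P).Normal := (Subgroup.normal_subgroupOf_iff_le_normalizer hKP).mpr hKn
  refine ⟨inf_le_right, hT.2.1.to_le inf_le_left, ?_⟩
  rw [Subgroup.inf_relIndex_right]
  have h := Grp.sylow_inf_normal_relIndex Q (K.subgroupOf P)
  rwa [← Subgroup.relIndex_map_map_of_injective (K := K.subgroupOf P) _ P.subtype_injective,
    Subgroup.map_subgroupOf_eq_of_le hKP, hQ] at h

end Cfsg.Agent.Invol.NoOff
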