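import Cfsg.Agent.Lib.Invol.NoOff.Main
import Cfsg.Agent.Lib.Invol.FusionTheorem
import Cfsg.Agent.Lib.Invol.Section
import Cfsg.Agent.Lib.Transfer.ThompsonComplementEl
import Cfsg.Agent.Lib.Invol.ThompsonJ

/-!
In a group of characteristic two without inverted element of order three the centre and the
elementary Thompson subgroup of a Sylow 2-subgroup control fusion.
-/

set_option autoImplicit false
set_option linter.unusedSectionVars false
set_option linter.style.haveILetI false

namespace Cfsg.Agent.Invol.NoOff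

open Subgroup Cfsg.Agent.Block.SFour
open scoped Pointwise

universe u

/-- The two functors. -/
def zjFamily : Set (∀ (Q : Type u) [Group Q], Subgroup Q) :=
  {fun Q [Group Q] => Subgroup.center Q, fun Q [Group Q] => Cfsg.thompsonSubgroup 2 Q}

theorem zjFamily_char : ∀ W ∈ zjFamily.{u}, Cfsg.IsCharPFunctor.{u} 2 W := by
  haveI : Fact (Nat.Prime 2) := ⟨Nat.prime_two⟩
  rintro W (rfl | rfl)
  · exact Invol.isCharPFunctor_center 2
  · exact Transfer.ThompsonEl.family_isCharPFunctor (p := 2) true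

variable {X : Type u} [Group X] [Finite X]

/-- An elementary abelian subgroup of largest order in `S` is moved by normalisers into one. -/
theorem thompsonOf_le {S K : Subgroup X}
    (h : ∀ E ≤ S, Cfsg.IsElementaryAbelian 2 E →
      (∀ F ≤ S, Cfsg.IsElementaryAbelian 2 F → Nat.card F ≤ Nat.card E) → E ≤ K) :
    ∀ n ∈ normalizer ((S ⊓ K : Subgroup X) : Set X),
      n ∈ normalizer (Cfsg.thompsonSubgroupOf 2 S : Set X) := by
  intro n hn
  rw [Grp.mem_normalizer_iff_smul] at hn ⊢
  refine Subgroup.eq_of_le_of_card_ge ?_ (card_cj n _).ge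
  rw [Subgroup.pointwise_smul_subset_iff]
  refine Subgroup.map_le_iff_le_comap.mpr (sSup_le fun A hA => ?_)
  rw [← Subgroup.map_le_iff_le_comap, ← Subgroup.pointwise_smul_subset_iff]
  set E := A.map S.subtype with hE
  have hES : E ≤ S := Subgroup.map_subtype_le _
  have hEel : Cfsg.IsElementaryAbelian 2 E := Transfer.Thompson.isElementaryAbelian_map _ hA.1
  have hEmax : ∀ F ≤ S, Cfsg.IsElementaryAbelian 2 F → Nat.card F ≤ Nat.card E := by
    intro F hF hFel
    rw [hE, Subgroup.card_map_of_injective S.subtype_injective,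
      ← Nat.card_congr (Subgroup.subgroupOfEquivOfLe hF).toEquiv]
    refine hA.2 _ ⟨⟨⟨fun a b => Subtype.ext (Subtype.ext ?_)⟩⟩, fun a ha => Subtype.ext ?_⟩
    · exact el_comm hFel a.2 b.2
    · rw [SubmonoidClass.coe_pow]; exact hFel.2 _ ha
  have hmv : MulAut.conj n • E ≤ S :=
    ((Subgroup.pointwise_smul_le_pointwise_smul_iff.mpr (le_inf hES (h E hES hEel hEmax))).trans
      hn.le).trans inf_le_left
  set A' := (MulAut.conj n • E).subgroupOf S
  have hA' : A' ∈ Cfsg.maxElementaryAbelianSubgroups 2 S := by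
    refine ⟨⟨⟨⟨fun a b => Subtype.ext (Subtype.ext ?_)⟩⟩, fun a ha => Subtype.ext ?_⟩, fun B hB => ?_⟩
    · exact el_comm (el_cj hEel n) a.2 b.2
    · rw [SubmonoidClass.coe_pow]; exact (el_cj hEel n).2 _ ha
    · rw [Nat.card_congr (Subgroup.subgroupOfEquivOfLe hmv).toEquiv, card_cj, hE,
        Subgroup.card_map_of_injective S.subtype_injective]
      exact hA.2 B hB
  intro x hx
  exact ⟨⟨x, hmv hx⟩, le_sSup hA' (Subgroup.mem_subgroupOf.mpr hx), rfl⟩

set_option maxHeartbeats 1000000 in
/-- The local theorem. -/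
theorem fusCtrl_local (hchar : centralizer (Cfsg.pCore 2 X : Set X) ≤ Cfsg.pCore 2 X)
    (hnt : NoThree X) : FusCtrl 2 zjFamily.{u} X := by
  haveI : Fact (Nat.Prime 2) := ⟨Nat.prime_two⟩
  intro Sy A h hA hhA
  set S : Subgroup X := (Sy : Subgroup X) with hS
  set Q := Cfsg.pCore 2 X with hQ
  haveI : Q.Normal := Grp.pCore_isNormal
  have hQS : Q ≤ S := Grp.pCore_le_sylow Sy
  set Zs := S ⊓ centralizer (S : Set X) with hZs
  set ZQ := Q ⊓ centralizer (Q : Set X) with hZQ
  haveI : ZQ.Normal := Subgroup.normal_inf_normal _ _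
  have hZsZQ : Zs ≤ ZQ := by
    have : Zs ≤ centralizer (Q : Set X) := inf_le_right.trans (Subgroup.centralizer_le hQS)
    exact le_inf (this.trans hchar) this
  set Y := Subgroup.normalClosure (Zs : Set X)
  have hYZ : Y ≤ ZQ := Subgroup.normalClosure_le_normal hZsZQ
  have hYcomm : ∀ a ∈ Y, ∀ b ∈ Y, a * b = b * a := fun a ha b hb =>
    (Subgroup.mem_centralizer_iff.mp (hYZ hb).2 a (hYZ ha).1)
  have hY2 : IsPGroup 2 Y := (Grp.pCore_isPGroup (p := 2) (G := X)).to_le (hYZ.trans inf_le_left)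
  let W : Subgroup X :=
    { carrier := {y | y ∈ Y ∧ y ^ 2 = 1}
      one_mem' := ⟨Y.one_mem, one_pow _⟩
      mul_mem' := fun {a b} ha hb => ⟨Y.mul_mem ha.1 hb.1, by
        rw [(show Commute a b from hYcomm a ha.1 b hb.1).mul_pow, ha.2, hb.2, mul_one]⟩
      inv_mem' := fun {a} ha => ⟨Y.inv_mem ha.1, by rw [inv_pow, ha.2, inv_one]⟩ }
  have hWY : W ≤ Y := fun _ hy => hy.1
  haveI : W.Normal := ⟨fun y hy g => ⟨(inferInstance : Y.Normal).conj_mem y hy.1 g, by
    rw [conj_pow, hy.2, mul_one, mul_inv_cancel]⟩⟩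
  haveI : IsMulCommutative W := ⟨⟨fun a b => Subtype.ext (hYcomm a a.2.1 b b.2.1)⟩⟩
  letI : CommGroup W := { (inferInstance : Group W) with
    mul_comm := fun a b => Subtype.ext (hYcomm a a.2.1 b b.2.1) }
  letI : Module (ZMod 2) (Additive W) := AddCommGroup.zmodModule (fun w => by
    refine Additive.toMul.injective (Subtype.ext ?_)
    exact (Additive.toMul w).2.2)
  obtain ⟨ρ, hρ⟩ : ∃ ρ : Representation (ZMod 2) X (Additive W),
      ∀ (g : X) (w : Additive W),
        ((Additive.toMul (ρ g w) : W) : X) = g * ((Additive.toMul w : W) : X) * g⁻¹ := by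
    let θ : X → Additive W →+ Additive W := fun g => (MulAut.conjNormal g).toMonoidHom.toAdditive
    have hθ : ∀ g w, ((Additive.toMul (θ g w) : W) : X) = g * ((Additive.toMul w : W) : X) * g⁻¹ :=
      fun g w => MulAut.conjNormal_apply g (Additive.toMul w)
    refine ⟨
    { toFun := fun g => (θ g).toZModLinearMap 2
      map_one' := LinearMap.ext fun w => Additive.toMul.injective (Subtype.ext (by
        show ((Additive.toMul (θ 1 w) : W) : X) = ((Additive.toMul w : W) : X)
        rw [hθ]; group))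
      map_mul' := fun g g' => LinearMap.ext fun w => Additive.toMul.injective (Subtype.ext (by
        show ((Additive.toMul (θ (g * g') w) : W) : X) = ((Additive.toMul (θ g (θ g' w)) : W) : X)
        rw [hθ, hθ, hθ]; group)) }, hθ⟩
  set K := fixg ρ (⊤ : Submodule (ZMod 2) (Additive W)) with hK
  have hmemK : ∀ g : X, g ∈ K ↔ ∀ y ∈ W, g * y * g⁻¹ = y := by
    intro g
    constructor
    · intro hg y hy
      have := congrArg (fun v => ((Additive.toMul v : W) : X))
        (hg (Additive.ofMul ⟨y, hy⟩) Submodule.mem_top)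
      simpa [hρ] using this
    · intro hg v _
      exact Additive.toMul.injective (Subtype.ext ((hρ g v).trans (hg _ (Additive.toMul v).2)))
  have htop : (⊤ : Subgroup X) ≤ stab ρ (⊤ : Submodule (ZMod 2) (Additive W)) := fun _ _ =>
    mem_stab_of_forall fun _ _ => Submodule.mem_top
  haveI hKn : K.Normal := Subgroup.normalizer_eq_top_iff.mp
    (top_le_iff.mp (htop.trans stab_le_normalizer_fixg))
  -- odd elements of `K` centralise `Y`
  have hoddY : ∀ g ∈ K, Odd (orderOf g) → ∀ (m : ℕ) (y : X), y ∈ Y → y ^ 2 ^ m = 1 → g * y * g⁻¹ = y := by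
    intro g hg ho m
    induction m with
    | zero => intro y _ hy; rw [pow_zero, pow_one] at hy; rw [hy]; group
    | succ m ih =>
      intro y hy hym
      have h2 : g * y ^ 2 * g⁻¹ = y ^ 2 :=
        ih (y ^ 2) (Y.pow_mem hy 2) (by rw [← pow_mul, ← pow_succ']; exact hym)
      set c := g * y * g⁻¹ * y⁻¹ with hc
      have hcY : c ∈ Y := Y.mul_mem ((inferInstance : Y.Normal).conj_mem y hy g) (Y.inv_mem hy)
      have hc2 : c ^ 2 = 1 := by
        rw [hc, (show Commute (g * y * g⁻¹) y⁻¹ from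
          hYcomm _ ((inferInstance : Y.Normal).conj_mem y hy g) _ (Y.inv_mem hy)).mul_pow,
          conj_pow, h2, inv_pow, mul_inv_cancel]
      have hfix : g * c * g⁻¹ = c := (hmemK g).mp hg c ⟨hcY, hc2⟩
      have hpow : ∀ i : ℕ, g ^ i * y * (g ^ i)⁻¹ = c ^ i * y := by
        intro i
        induction i with
        | zero => simp
        | succ i ihi =>
          calc g ^ (i + 1) * y * (g ^ (i + 1))⁻¹ = g * (g ^ i * y * (g ^ i)⁻¹) * g⁻¹ := by
                rw [pow_succ']; group
            _ = (g * c * g⁻¹) ^ i * (g * y * g⁻¹) := by rw [ihi, conj_pow]; group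
            _ = c ^ i * (c * y) := by rw [hfix, show g * y * g⁻¹ = c * y by rw [hc]; group]
            _ = c ^ (i + 1) * y := by rw [pow_succ, mul_assoc (c ^ i) c y]
      have h3 := hpow (orderOf g)
      rw [pow_orderOf_eq_one, inv_one, mul_one, one_mul] at h3
      obtain ⟨q, hq⟩ := ho
      rw [hq, pow_succ, pow_mul, hc2, one_pow, one_mul] at h3
      have hc1 : c = 1 := mul_eq_right.mp h3.symm
      rw [hc, mul_inv_eq_one] at hc1
      exact hc1
  -- normal subgroups with image a 2-group centralise `Zs`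
  have hnormal : ∀ O : Subgroup X, O.Normal → K ≤ O → (∃ k, K.relIndex O = 2 ^ k) →
      O ≤ centralizer (Zs : Set X) := by
    intro O hOn hKO hk
    refine le_trans (Grp.le_of_forall_sylow (H := O ⊓ centralizer (Zs : Set X)) inf_le_left ?_)
      inf_le_right
    intro q hq
    rcases eq_or_ne q 2 with rfl | hq2
    · refine ⟨S ⊓ O, sylowIn_inf_normal le_top (Subgroup.normalizer_eq_top (H := O)).ge
        ⟨le_top, Sy.isPGroup', by rw [Subgroup.relIndex_top_right]; exact Sy.not_dvd_index⟩,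
        le_inf inf_le_right ?_⟩
      intro s hs
      exact Subgroup.mem_centralizer_iff.mpr fun z hz =>
        ((Subgroup.mem_centralizer_iff.mp hz.2 s hs.1)).symm
    · obtain ⟨T, hT⟩ := Grp.exists_isSylowIn q O
      refine ⟨T, hT, fun x hx => ⟨hT.1 hx, Subgroup.mem_centralizer_iff.mpr fun z hz => ?_⟩⟩
      obtain ⟨e, he⟩ := hT.2.1 ⟨x, hx⟩
      have hdvd : orderOf x ∣ q ^ e := orderOf_dvd_of_pow_eq_one (congrArg Subtype.val he)
      have hodd : Odd (orderOf x) := ((Nat.Prime.odd_of_ne_two hq.out hq2).pow).of_dvd_nat hdvd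
      obtain ⟨k, hk⟩ := hk
      have hxK : x ∈ K := by
        have h1 : x ^ 2 ^ k ∈ K := by
          rw [← hk]
          exact Subgroup.mem_subgroupOf.mp
            (Subgroup.pow_index_mem (K.subgroupOf O) (⟨x, hT.1 hx⟩ : O))
        obtain ⟨m, hm⟩ := exists_pow_eq_self_of_coprime (x := x) (n := 2 ^ k)
          (Nat.Coprime.pow_left _ (Nat.coprime_two_left.mpr hodd))
        rw [← hm]
        exact K.pow_mem h1 m
      obtain ⟨m, hm⟩ := hY2 ⟨z, Subgroup.subset_normalClosure hz⟩
      have h2 := hoddY x hxK hodd m z (Subgroup.subset_normalClosure hz) (congrArg Subtype.val hm)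
      rw [mul_inv_eq_iff_eq_mul] at h2
      exact h2.symm
  have hKZ : K ≤ centralizer (Zs : Set X) :=
    hnormal K hKn le_rfl ⟨0, by rw [Subgroup.relIndex_self, pow_zero]⟩
  have hcore : CoreFree ρ ⊤ (⊤ : Submodule (ZMod 2) (Additive W)) := by
    intro O _ hOn hKO hk
    haveI hOnorm : O.Normal := Subgroup.normalizer_eq_top_iff.mp (top_le_iff.mp hOn)
    rw [inf_top_eq] at hKO
    have hY : Y ≤ centralizer (O : Set X) := by
      refine Subgroup.normalClosure_le_normal fun z hz => Subgroup.mem_centralizer_iff.mpr fun o ho => ?_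
      exact (Subgroup.mem_centralizer_iff.mp (hnormal O hOnorm hKO hk ho) z hz).symm
    intro o ho
    refine (hmemK o).mpr fun y hy => ?_
    rw [Subgroup.mem_centralizer_iff.mp (hY (hWY hy)) o ho, mul_inv_cancel_right]
  -- largest elementary subgroups of `S` lie in `K`
  have hJK : ∀ E ≤ S, Cfsg.IsElementaryAbelian 2 E →
      (∀ F ≤ S, Cfsg.IsElementaryAbelian 2 F → Nat.card F ≤ Nat.card E) → E ≤ K := by
    intro E hES hE hmax
    by_contra hne
    have hlt := image_bound (noOffBelow (Nat.card X + 1)) hnt (H := ⊤)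
      (by rw [Subgroup.card_top]; exact Nat.lt_succ_self _) htop hcore le_top
      (fun x hx => by rw [hE.2 x hx]; exact one_mem _) hne
    rw [top_inf_eq, card_top'] at hlt
    set E0 := K ⊓ E
    have hWS : W ≤ S := (hWY.trans (hYZ.trans inf_le_left)).trans hQS
    have hFel : Cfsg.IsElementaryAbelian 2 (E0 ⊔ W : Subgroup X) := by
      have hcl : E0 ⊔ W = Subgroup.closure ((E0 : Set X) ∪ W) := by
        rw [Subgroup.closure_union, Subgroup.closure_eq, Subgroup.closure_eq]
      have hew : ∀ e ∈ E0, ∀ w ∈ W, e * w = w * e := fun e he w hw => by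
        have h1 := (hmemK e).mp he.1 w hw
        rwa [mul_inv_eq_iff_eq_mul] at h1
      rw [hcl]
      refine Transfer.Thompson.isElementaryAbelian_closure ?_ ?_
      · rintro a (ha | ha) b (hb | hb)
        · exact el_comm hE ha.2 hb.2
        · exact hew a ha b hb
        · exact (hew b hb a ha).symm
        · exact hYcomm a ha.1 b hb.1
      · rintro a (ha | ha)
        · exact hE.2 a ha.2
        · exact ha.2
    have h1 := hmax _ (sup_le (inf_le_right.trans hES) hWS) hFel
    have h2 : Nat.card ↥(E0 ⊓ W) ≤ Nat.card (fixd ρ E) := by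
      refine Nat.card_le_card_of_injective
        (fun w => ⟨Additive.ofMul ⟨(w : X), w.2.2⟩, fun e he =>
          Additive.toMul.injective (Subtype.ext ?_)⟩) ?_
      · rw [hρ]
        show e * (w : X) * e⁻¹ = w
        rw [el_comm hE he w.2.1.2, mul_inv_cancel_right]
      · intro a b hab
        exact Subtype.ext (congrArg (fun z : W => (z : X))
          (congrArg Additive.toMul (congrArg Subtype.val hab)) :)
    have h3 := Grp.card_sup_mul_card_inf (H := E0) (N := W)
      ((Subgroup.normalizer_eq_top (H := W)).ge.trans' le_top)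
    have h4 : Nat.card E = K.relIndex E * Nat.card E0 := by
      rw [← Subgroup.inf_relIndex_right, ← Subgroup.relIndex_bot_left E0,
        ← Subgroup.relIndex_bot_left E, mul_comm]
      exact (Subgroup.relIndex_mul_relIndex _ _ _ bot_le inf_le_right).symm
    have h5 : Nat.card (Additive W) = Nat.card W := rfl
    rw [h5] at hlt
    refine lt_irrefl (Nat.card E * Nat.card (fixd ρ E)) ?_
    calc Nat.card E * Nat.card (fixd ρ E) = Nat.card E0 * (K.relIndex E * Nat.card (fixd ρ E)) := by
          rw [h4]; ring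
      _ < Nat.card E0 * Nat.card W := Nat.mul_lt_mul_of_pos_left hlt Nat.card_pos
      _ = Nat.card ↥(E0 ⊔ W) * Nat.card ↥(E0 ⊓ W) := h3.symm
      _ ≤ Nat.card E * Nat.card (fixd ρ E) := Nat.mul_le_mul h1 h2
  have hNJ := thompsonOf_le hJK
  -- the two steps
  have hSC : S ≤ centralizer (Zs : Set X) := fun s hs => Subgroup.mem_centralizer_iff.mpr fun z hz =>
    ((Subgroup.mem_centralizer_iff.mp hz.2 s hs)).symm
  have hST : Grp.IsSylowIn 2 S ⊤ :=
    ⟨le_top, Sy.isPGroup', by rw [Subgroup.relIndex_top_right]; exact Sy.not_dvd_index⟩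
  obtain ⟨k, hk, n, -, hn, hkn⟩ := frattini_in le_top
    (Subgroup.normalizer_eq_top (H := K)).ge (sylowIn_inf_normal le_top
      (Subgroup.normalizer_eq_top (H := K)).ge hST) (mem_top h⁻¹)
  have hh : h = n⁻¹ * k⁻¹ := by rw [← mul_inv_rev, ← hkn, inv_inv]
  set H := centralizer (Zs : Set X) ⊓ normalizer ((S ⊓ K : Subgroup X) : Set X) with hH
  have hSH : S ≤ H := le_inf hSC fun s hs => by
    rw [Grp.mem_normalizer_iff_smul, Subgroup.smul_inf, Subgroup.conj_smul_eq_self_of_mem hs,
      Subgroup.Normal.conj_smul_eq_self s K]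
  have hB : Subgroup.closure ((fun a => k⁻¹ * a * k) '' A) ≤ H := by
    rw [Subgroup.closure_le]
    rintro _ ⟨a, ha, rfl⟩
    refine ⟨Subgroup.mul_mem _ (Subgroup.mul_mem _ ((centralizer (Zs : Set X)).inv_mem (hKZ hk))
      (hSC (hA ha))) (hKZ hk), ?_⟩
    have h1 := (normalizer ((S ⊓ K : Subgroup X) : Set X)).mul_mem
      ((normalizer ((S ⊓ K : Subgroup X) : Set X)).mul_mem hn (hSH (hhA a ha)).2)
      ((normalizer ((S ⊓ K : Subgroup X) : Set X)).inv_mem hn)
    rwa [hh, show n * (n⁻¹ * k⁻¹ * a * (n⁻¹ * k⁻¹)⁻¹) * n⁻¹ = k⁻¹ * a * k by group] at h1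
  have hBp : IsPGroup 2 (Subgroup.closure ((fun a => k⁻¹ * a * k) '' A)) := by
    refine ((Sy.isPGroup'.to_le ((Subgroup.closure_le _).mpr hA)).map
      (MulAut.conj k⁻¹).toMonoidHom).to_le ?_
    rw [MonoidHom.map_closure]
    refine Subgroup.closure_mono ?_
    rintro _ ⟨a, ha, rfl⟩
    exact ⟨a, ha, by simp⟩
  obtain ⟨d, hd, hdB⟩ := Invol.exists_conj_into (sylowIn_of_between hST hSH le_top) hB hBp
  set c := d * k⁻¹ with hc
  have hcA : ∀ a ∈ A, c * a * c⁻¹ ∈ S := fun a ha => by
    have h1 := hdB _ (Subgroup.subset_closure ⟨a, ha, rfl⟩)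
    simpa [hc, mul_assoc] using h1
  have hstep1 : Chn (ind zjFamily.{u} X) S A c := by
    refine chn_step ⟨_, ⟨_, Or.inl rfl, rfl⟩, ?_⟩ hcA
    show c ∈ normalizer (Cfsg.inducedFunctor (fun Q [Group Q] => Subgroup.center Q) S : Set X)
    rw [Invol.inducedFunctor_center]
    refine Subgroup.centralizer_le_normalizer _ ?_
    exact Subgroup.mul_mem _ hd.1 ((centralizer (Zs : Set X)).inv_mem (hKZ hk))
  have hstep2 : Chn (ind zjFamily.{u} X) S ((fun a => c * a * c⁻¹) '' A) (n⁻¹ * d⁻¹) := by
    refine chn_step ⟨_, ⟨_, Or.inr rfl, rfl⟩, ?_⟩ ?_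
    · exact hNJ _ (Subgroup.mul_mem _ ((normalizer _).inv_mem hn) ((normalizer _).inv_mem hd.2))
    · rintro _ ⟨a, ha, rfl⟩
      have h1 := hhA a ha
      rw [hh] at h1
      simpa [hc, mul_assoc] using h1
  have := hstep1.comp hstep2
  rwa [show n⁻¹ * d⁻¹ * c = h by rw [hh, hc]; group] at this

end Cfsg.Agent.Invol.NoOff
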