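import Cfsg.Agent.Lib.Invol.NoOff.Step

/-!
No offenders: a group without inverted element of order three and with trivial 2-core has no
elementary abelian 2-subgroup `A ≠ 1` with `|V| ≤ |A| |C_V(A)|` on a faithful module.
-/

set_option autoImplicit false
set_option linter.unusedSectionVars false
set_option linter.style.haveILetI false

namespace Cfsg.Agent.Invol.NoOff

open Subgroup Cfsg.Agent.Block.SFour
open scoped Pointwise

universe u v

section

variable {G : Type u} [Group G] [Finite G] {V : Type v} [AddCommGroup V] [Module (ZMod 2) V]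
  [Finite V] {ρ : Representation (ZMod 2) G V}

/-- Nothing moves `V` into `U` and fixes `U`. -/
theorem chain_trivial (hfaith : Function.Injective ρ) (hpc : Cfsg.pCore 2 G = ⊥)
    {U : Submodule (ZMod 2) V} (hU : (⊤ : Subgroup G) ≤ stab ρ U) {g : G} (hg : g ∈ fixg ρ U)
    (hmove : ∀ v, ρ g v + v ∈ U) : g = 1 := by
  have htop : (⊤ : Subgroup G) ≤ stab ρ (⊤ : Submodule (ZMod 2) V) := fun _ _ =>
    mem_stab_of_forall fun _ _ => Submodule.mem_top
  set K := fixg ρ U ⊓ kern ρ ⊤ U ⊤ with hK
  haveI : K.Normal := by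
    refine Subgroup.normalizer_eq_top_iff.mp (top_le_iff.mp fun x _ => ?_)
    rw [Grp.mem_normalizer_iff_smul, hK, Subgroup.smul_inf,
      Grp.mem_normalizer_iff_smul.mp (stab_le_normalizer_fixg (hU (mem_top x))),
      Grp.mem_normalizer_iff_smul.mp (le_normalizer_kern hU htop (mem_top x))]
  have hK2 : IsPGroup 2 K := fun k => by
    refine ⟨1, Subtype.ext (hfaith ?_)⟩
    refine LinearMap.ext fun v => ?_
    rw [pow_one, SubmonoidClass.coe_pow, Subgroup.coe_one, map_one, pow_two, rho_mul]
    have h1 := k.2.2.2.2 v Submodule.mem_top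
    have h2 := k.2.1 _ h1
    rw [map_add, add_comm (ρ (k : G) v) v] at h2
    exact add_right_cancel h2
  have hmem : g ∈ K := ⟨hg, (mem_kern hU htop).mpr ⟨mem_top g, fun v _ => hmove v⟩⟩
  exact Subgroup.mem_bot.mp (hpc ▸ Grp.le_pCore inferInstance hK2 hmem)

set_option maxHeartbeats 1000000 in
/-- The reduction of a smallest counterexample to the two cases. -/
theorem no_off_step (IH : NoOffBelow.{u, v} (Nat.card G)) (hnt : NoThree G)
    (hfaith : Function.Injective ρ) (hpc : Cfsg.pCore 2 G = ⊥)
    (IH2 : ∀ (W : Type v) [AddCommGroup W] [Module (ZMod 2) W] [Finite W]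
      (τ : Representation (ZMod 2) G W), Nat.card W < Nat.card V → Function.Injective τ →
      ∀ A : Subgroup G, ¬ Off τ A) (A0 : Subgroup G) : ¬ Off ρ A0 := by
  intro hA0
  haveI : Fact (Nat.Prime 2) := ⟨Nat.prime_two⟩
  obtain ⟨A, -, hA⟩ := exists_minOff hA0
  have hAne := hA.1.2.1
  haveI : Nontrivial V := by
    by_contra h
    rw [not_nontrivial_iff_subsingleton] at h
    refine hAne ((Subgroup.eq_bot_iff_forall _).mpr fun a _ => hfaith ?_)
    exact LinearMap.ext fun v => Subsingleton.elim _ _
  have htopst : (⊤ : Subgroup G) ≤ stab ρ (⊤ : Submodule (ZMod 2) V) := fun _ _ =>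
    mem_stab_of_forall fun _ _ => Submodule.mem_top
  -- no fixed vectors
  have hfix0 : fixd ρ (⊤ : Subgroup G) = ⊥ := by
    by_contra hne
    set F := fixd ρ (⊤ : Subgroup G)
    have hop : ∀ x : G, F ≤ F.comap (ρ x) := fun x v hv => by
      rw [Submodule.mem_comap, hv x (mem_top x)]; exact hv
    obtain ⟨τ, hτ⟩ : ∃ τ : Representation (ZMod 2) G (V ⧸ F),
        ∀ (x : G) (v : V), τ x (Submodule.Quotient.mk v) = Submodule.Quotient.mk (ρ x v) := by
      refine ⟨
      { toFun := fun a => Submodule.mapQ _ _ (ρ a) (hop a)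
        map_one' := LinearMap.ext fun q => by
          induction q using Submodule.Quotient.induction_on with
          | _ x =>
            show Submodule.Quotient.mk (ρ 1 x) = _
            rw [map_one]; rfl
        map_mul' := fun a b => LinearMap.ext fun q => by
          induction q using Submodule.Quotient.induction_on with
          | _ x =>
            show Submodule.Quotient.mk (ρ (a * b) x) = Submodule.Quotient.mk (ρ a (ρ b x))
            rw [rho_mul] }, fun _ _ => rfl⟩
    haveI : Finite (V ⧸ F) := Finite.of_surjective _ (Submodule.Quotient.mk_surjective _)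
    have hinj : Function.Injective τ := by
      intro x y h
      have h1 : y⁻¹ * x = 1 := by
        refine chain_trivial hfaith hpc (U := F) (fun z _ => mem_stab_of_forall fun v hv => hop z hv)
          (fun v hv => hv _ (mem_top _)) fun v => ?_
        have h2 : τ (y⁻¹ * x) (Submodule.Quotient.mk v) = Submodule.Quotient.mk v := by
          rw [map_mul, h, ← map_mul, inv_mul_cancel, map_one, Module.End.one_apply]
        rw [hτ] at h2
        rw [← sub_eq_add']
        exact (Submodule.Quotient.eq F).mp h2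
      exact (inv_mul_eq_one.mp h1).symm
    have hFA : F ≤ fixd ρ A := fixd_anti le_top
    have hV : Nat.card V = Nat.card F * Nat.card (V ⧸ F) := Submodule.card_eq_card_quotient_mul_card F
    refine IH2 (V ⧸ F) τ ?_ hinj A ⟨hA.1.1, hAne, ?_⟩
    · rw [hV]
      refine lt_mul_left Nat.card_pos ?_
      have : Nontrivial F := Submodule.nontrivial_iff_ne_bot.mpr hne
      exact Finite.one_lt_card
    · refine Nat.le_of_mul_le_mul_left ?_ (Nat.card_pos (α := F))
      rw [← hV]
      refine hA.1.2.2.trans ?_
      rw [mul_left_comm]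
      refine Nat.mul_le_mul_left _ ?_
      rw [card_map_mul F.mkQ (fixd ρ A) (by rw [Submodule.ker_mkQ]; exact hFA), Submodule.ker_mkQ]
      refine Nat.mul_le_mul_left _ (card_mono ?_)
      rintro _ ⟨v, hv, rfl⟩ a ha
      rw [Submodule.mkQ_apply, hτ, hv a ha]
  -- no smaller faithful submodule
  have hfull : ∀ U : Submodule (ZMod 2) V, (⊤ : Subgroup G) ≤ stab ρ U →
      (∀ (g : G) (v : V), ρ g v + v ∈ U) → U = ⊤ := by
    intro U hU hmove
    by_contra hne
    obtain ⟨τ, hτ⟩ : ∃ τ : Representation (ZMod 2) G U,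
        ∀ (a : G) (x : U), ((τ a x : U) : V) = ρ a x := by
      refine ⟨
      { toFun := fun a => (ρ a).restrict fun u hu => apply_mem_of_stab (hU (mem_top a)) hu
        map_one' := LinearMap.ext fun x => Subtype.ext (by
          show ρ 1 (x : V) = x
          rw [map_one]; rfl)
        map_mul' := fun a b => LinearMap.ext fun x => Subtype.ext (by
          show ρ (a * b) (x : V) = ρ a (ρ b x)
          exact rho_mul ρ _ _ _) }, fun _ _ => rfl⟩
    have hinj : Function.Injective τ := by
      intro x y h
      refine (inv_mul_eq_one.mp (chain_trivial hfaith hpc hU (g := y⁻¹ * x) ?_ fun v => hmove _ v)).symm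
      intro u hu
      have h2 : τ (y⁻¹ * x) ⟨u, hu⟩ = ⟨u, hu⟩ := by
        rw [map_mul, h, ← map_mul, inv_mul_cancel, map_one, Module.End.one_apply]
      have h3 := congrArg Subtype.val h2
      rwa [hτ] at h3
    refine IH2 U τ ?_ hinj A ⟨hA.1.1, hAne, ?_⟩
    · exact (card_lt (lt_top_iff_ne_top.mpr hne)).trans_eq card_top'
    · have h1 := card_sup_mul_inf U (fixd ρ A)
      have h2 : Nat.card ↥(U ⊓ fixd ρ A) ≤ Nat.card (fixd τ A) := by
        refine Nat.card_le_card_of_injective (fun v => ⟨⟨(v : V), v.2.1⟩, fun a ha =>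
          Subtype.ext (by rw [hτ]; exact v.2.2 a ha)⟩) ?_
        intro v w h
        exact Subtype.ext (congrArg (fun z => ((z : U) : V)) (congrArg Subtype.val h) :)
      refine Nat.le_of_mul_le_mul_right ?_ (Nat.card_pos (α := fixd ρ A))
      rw [← h1]
      calc Nat.card ↥(U ⊔ fixd ρ A) * Nat.card ↥(U ⊓ fixd ρ A)
          ≤ (Nat.card A * Nat.card (fixd ρ A)) * Nat.card ↥(U ⊓ fixd ρ A) :=
            Nat.mul_le_mul_right _ ((card_le_top _).trans hA.1.2.2)
        _ ≤ (Nat.card A * Nat.card (fixd ρ A)) * Nat.card (fixd τ A) := Nat.mul_le_mul_left _ h2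
        _ = _ := by ring
  -- the conjugates generate
  have hgen : ∀ L : Subgroup G, (∀ g : G, MulAut.conj g • A ≤ L) → L = ⊤ := by
    intro L hL
    by_contra hLne
    set N := L.normalCore
    haveI : N.Normal := Subgroup.normalCore_normal L
    have hNne : N ≠ ⊤ := fun e => hLne (top_le_iff.mp (e ▸ Subgroup.normalCore_le L))
    have hAN : A ≤ N := fun a ha x => hL x (conj_mem_cj ha)
    have hcore : CoreFree ρ N (⊤ : Submodule (ZMod 2) V) := by
      intro O hON hOn _ hk
      have hf : fixg ρ (⊤ : Submodule (ZMod 2) V) = ⊥ := (Subgroup.eq_bot_iff_forall _).mpr fun x hx =>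
        hfaith (LinearMap.ext fun v => by rw [hx v Submodule.mem_top, map_one]; rfl)
      rw [hf, Subgroup.relIndex_bot_left] at hk
      obtain ⟨k, hk⟩ := hk
      haveI : (O.subgroupOf N).Normal := (Subgroup.normal_subgroupOf_iff_le_normalizer hON).mpr hOn
      have h1 : (O.subgroupOf N).map N.subtype ≤ (Cfsg.pCore 2 N).map N.subtype :=
        Subgroup.map_mono (Grp.le_pCore inferInstance (IsPGroup.of_card hk).comap_subtype)
      rw [Subgroup.map_subgroupOf_eq_of_le hON] at h1
      exact (h1.trans ((Grp.pCore_map_le N).trans hpc.le)).trans bot_le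
    have h1 := hA.fixes IH hnt (card_lt_of_ne_top hNne)
      (fun x _ => htopst (mem_top x)) hcore hAN
    refine hAne ((Subgroup.eq_bot_iff_forall _).mpr fun a ha => hfaith ?_)
    exact LinearMap.ext fun v => by rw [h1 ha v Submodule.mem_top, map_one]; rfl
  obtain ⟨S, hAS, hS⟩ := exists_sylowIn_ge (H := ⊤) le_top hA.isPGroup
  by_cases htop : fixg ρ (fixd ρ S) ⊔ normalizer (jgen ρ S : Set G) = ⊤
  · exact case_two IH hnt hfix0 hpc hS hA hAS hgen htop
  · exact case_one IH hnt hfaith hfix0 hfull hpc hS hA hAS hgen htop le_sup_left le_sup_right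

end

theorem noOffBelow : ∀ n : ℕ, NoOffBelow.{u, v} n := by
  intro n
  induction n with
  | zero => intro G _ _ h; exact absurd h (Nat.not_lt_zero _)
  | succ n ih =>
    intro G _ _ hG hnt
    rcases lt_or_eq_of_le (Nat.lt_succ_iff.mp hG) with h | rfl
    · exact ih G h hnt
    intro V _ _ _ σ hσ hpc
    suffices key : ∀ (m : ℕ) (W : Type v) [AddCommGroup W] [Module (ZMod 2) W] [Finite W]
        (τ : Representation (ZMod 2) G W), Nat.card W = m → Function.Injective τ →
        ∀ A : Subgroup G, ¬ Off τ A from key _ V σ rfl hσ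
    intro m
    induction m using Nat.strong_induction_on with
    | _ m ihm =>
      intro W _ _ _ τ hm hτ
      exact no_off_step ih hnt hτ hpc fun W' _ _ _ τ' hlt hτ' => ihm _ (hm ▸ hlt) W' τ' rfl hτ'

/-- No offenders. -/
theorem no_off {G : Type u} [Group G] [Finite G] (hnt : NoThree G) {V : Type v} [AddCommGroup V]
    [Module (ZMod 2) V] [Finite V] {ρ : Representation (ZMod 2) G V}
    (hfaith : Function.Injective ρ) (hpc : Cfsg.pCore 2 G = ⊥) (A : Subgroup G) : ¬ Off ρ A :=
  noOffBelow (Nat.card G + 1) G (Nat.lt_succ_self _) hnt V ρ hfaith hpc A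

end Cfsg.Agent.Invol.NoOff
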