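import Cfsg.Prelude
import Cfsg.Agent.Lib.Grp.Coprime
import Cfsg.Agent.Lib.Grp.Cores

/-!
Offenders on modules over the field with two elements: the elementary facts.
-/

set_option autoImplicit false
set_option linter.unusedSectionVars false
set_option linter.style.haveILetI false

namespace Cfsg.Agent.Invol.NoOff

open Subgroup
open scoped Pointwise

universe u v

variable {G : Type u} [Group G] {V : Type v} [AddCommGroup V] [Module (ZMod 2) V]
  (ρ : Representation (ZMod 2) G V)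

theorem rho_mul (g h : G) (v : V) : ρ (g * h) v = ρ g (ρ h v) := by simp [map_mul]

theorem rho_inv_apply (g : G) (v : V) : ρ g⁻¹ (ρ g v) = v := by
  rw [← rho_mul, inv_mul_cancel, map_one]; rfl

theorem rho_apply_inv (g : G) (v : V) : ρ g (ρ g⁻¹ v) = v := by
  rw [← rho_mul, mul_inv_cancel, map_one]; rfl

theorem rho_injective (g : G) : Function.Injective (ρ g) :=
  Function.LeftInverse.injective (rho_inv_apply ρ g)

theorem add_self_zero (v : V) : v + v = 0 := by
  rw [← two_smul (ZMod 2) v, show (2 : ZMod 2) = 0 from rfl, zero_smul]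

theorem neg_eq_self (v : V) : -v = v := neg_eq_of_add_eq_zero_left (add_self_zero v)

theorem sub_eq_add' (v w : V) : v - w = v + w := by rw [sub_eq_add_neg, neg_eq_self]

/-- The common fixed space. -/
def fixd (A : Subgroup G) : Submodule (ZMod 2) V where
  carrier := {v | ∀ a ∈ A, ρ a v = v}
  add_mem' := fun {v w} hv hw a ha => by rw [map_add, hv a ha, hw a ha]
  zero_mem' := fun a _ => map_zero _
  smul_mem' := fun c v hv a ha => by rw [map_smul, hv a ha]

variable {ρ}

theorem mem_fixd {A : Subgroup G} {v : V} : v ∈ fixd ρ A ↔ ∀ a ∈ A, ρ a v = v := Iff.rfl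

theorem fixd_anti {A B : Subgroup G} (h : B ≤ A) : fixd ρ A ≤ fixd ρ B :=
  fun _ hv a ha => hv a (h ha)

variable (ρ)

/-- The pointwise stabiliser of a subspace. -/
def fixg (U : Submodule (ZMod 2) V) : Subgroup G where
  carrier := {g | ∀ u ∈ U, ρ g u = u}
  mul_mem' := fun {g h} hg hh u hu => by rw [rho_mul, hh u hu, hg u hu]
  one_mem' := fun u _ => by rw [map_one]; rfl
  inv_mem' := fun {g} hg u hu => by
    conv_lhs => rw [← hg u hu]
    exact rho_inv_apply ρ g u

/-- The setwise stabiliser of a subspace. -/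
def stab (U : Submodule (ZMod 2) V) : Subgroup G where
  carrier := {g | ∀ u, u ∈ U ↔ ρ g u ∈ U}
  mul_mem' := fun {g h} hg hh u => by rw [rho_mul]; exact (hh u).trans (hg _)
  one_mem' := fun u => by rw [map_one]; rfl
  inv_mem' := fun {g} hg u => by
    have := hg (ρ g⁻¹ u)
    rw [rho_apply_inv] at this
    exact this.symm

variable {ρ}

theorem mem_fixg {U : Submodule (ZMod 2) V} {g : G} : g ∈ fixg ρ U ↔ ∀ u ∈ U, ρ g u = u := Iff.rfl

theorem mem_stab {U : Submodule (ZMod 2) V} {g : G} : g ∈ stab ρ U ↔ ∀ u, u ∈ U ↔ ρ g u ∈ U :=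
  Iff.rfl

theorem mem_stab_of_forall [Finite V] {U : Submodule (ZMod 2) V} {g : G}
    (h : ∀ u ∈ U, ρ g u ∈ U) : g ∈ stab ρ U := by
  intro u
  refine ⟨h u, fun hu => ?_⟩
  have heq : U.map (ρ g) = U := by
    refine SetLike.coe_injective (Set.eq_of_subset_of_ncard_le ?_ ?_ (Set.toFinite _))
    · rintro _ ⟨w, hw, rfl⟩; exact h w hw
    · show (U : Set V).ncard ≤ (ρ g '' (U : Set V)).ncard
      rw [Set.ncard_image_of_injective _ (rho_injective ρ g)]
  rw [← heq] at hu
  obtain ⟨w, hw, hwu⟩ := hu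
  exact rho_injective ρ g hwu ▸ hw

theorem apply_mem_of_stab {U : Submodule (ZMod 2) V} {g : G} (hg : g ∈ stab ρ U) {u : V}
    (hu : u ∈ U) : ρ g u ∈ U := (hg u).mp hu

theorem fixg_le_stab [Finite V] (U : Submodule (ZMod 2) V) : fixg ρ U ≤ stab ρ U :=
  fun g hg => mem_stab_of_forall fun u hu => by rw [hg u hu]; exact hu

theorem fixg_anti {U U' : Submodule (ZMod 2) V} (h : U ≤ U') : fixg ρ U' ≤ fixg ρ U :=
  fun _ hg u hu => hg u (h hu)

theorem stab_le_normalizer_fixg [Finite G] {U : Submodule (ZMod 2) V} :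
    stab ρ U ≤ normalizer (fixg ρ U : Set G) := by
  intro g hg
  rw [Grp.mem_normalizer_iff_smul]
  refine Subgroup.eq_of_le_of_card_ge ?_ ?_
  · rintro _ ⟨x, hx, rfl⟩ u hu
    show ρ (g * x * g⁻¹) u = u
    rw [rho_mul, rho_mul, hx _ (apply_mem_of_stab ((stab ρ U).inv_mem hg) hu), rho_apply_inv]
  · exact (Nat.card_congr (Subgroup.equivSMul (MulAut.conj g) (fixg ρ U)).toEquiv).le

theorem mem_cj {g x : G} {H : Subgroup G} : x ∈ MulAut.conj g • H ↔ g⁻¹ * x * g ∈ H := by
  rw [Subgroup.mem_pointwise_smul_iff_inv_smul_mem]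
  show (MulAut.conj g)⁻¹ x ∈ H ↔ _
  simp [MulAut.conj_inv_apply]

theorem conj_mem_cj {g x : G} {H : Subgroup G} (hx : x ∈ H) : g * x * g⁻¹ ∈ MulAut.conj g • H :=
  mem_cj.mpr (by simpa [mul_assoc] using hx)

theorem card_cj (g : G) (H : Subgroup G) : Nat.card ↥(MulAut.conj g • H) = Nat.card H :=
  (Nat.card_congr (Subgroup.equivSMul (MulAut.conj g) H).toEquiv).symm

theorem fixd_cj (g : G) (A : Subgroup G) :
    fixd ρ (MulAut.conj g • A) = (fixd ρ A).map (ρ g) := by
  ext v
  constructor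
  · intro hv
    refine ⟨ρ g⁻¹ v, fun a ha => ?_, rho_apply_inv ρ g v⟩
    have := congrArg (ρ g⁻¹) (hv _ (conj_mem_cj ha))
    rwa [rho_mul, rho_mul, rho_inv_apply] at this
  · rintro ⟨w, hw, rfl⟩ x hx
    have h := hw _ (mem_cj.mp hx)
    have := congrArg (ρ g) h
    rwa [rho_mul, rho_mul, rho_apply_inv] at this

theorem card_map_rho (g : G) (U : Submodule (ZMod 2) V) :
    Nat.card ↥(U.map (ρ g)) = Nat.card U :=
  (Nat.card_congr (Submodule.equivMapOfInjective (ρ g) (rho_injective ρ g) U).toEquiv).symm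

theorem card_sup_mul_inf [Finite V] (U U' : Submodule (ZMod 2) V) :
    Nat.card ↥(U ⊔ U') * Nat.card ↥(U ⊓ U') = Nat.card U * Nat.card U' := by
  have h := Submodule.finrank_sup_add_finrank_inf_eq U U'
  rw [Module.natCard_eq_pow_finrank (K := ZMod 2) (V := ↥(U ⊔ U')),
    Module.natCard_eq_pow_finrank (K := ZMod 2) (V := ↥(U ⊓ U')),
    Module.natCard_eq_pow_finrank (K := ZMod 2) (V := ↥U),
    Module.natCard_eq_pow_finrank (K := ZMod 2) (V := ↥U'), ← pow_add, ← pow_add, h]

theorem card_mono [Finite V] {U U' : Submodule (ZMod 2) V} (h : U ≤ U') :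
    Nat.card U ≤ Nat.card U' :=
  Nat.card_le_card_of_injective _ (Submodule.inclusion_injective h)

theorem card_lt [Finite V] {U U' : Submodule (ZMod 2) V} (h : U < U') :
    Nat.card U < Nat.card U' := by
  have := Set.ncard_lt_ncard (SetLike.coe_ssubset_coe.mpr h) (Set.toFinite _)
  simpa [← Nat.card_coe_set_eq] using this

theorem card_le_top [Finite V] (U : Submodule (ZMod 2) V) : Nat.card U ≤ Nat.card V :=
  Nat.card_le_card_of_injective _ Subtype.val_injective

theorem card_top' : Nat.card (⊤ : Submodule (ZMod 2) V) = Nat.card V :=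
  Nat.card_congr Submodule.topEquiv.toEquiv

/-- A 2-group fixes a vector outside an invariant subspace inside each larger invariant one. -/
theorem exists_fixed_mod [Finite G] [Finite V] {A : Subgroup G} (hA : IsPGroup 2 A)
    {N' N : Submodule (ZMod 2) V} (hlt : N' < N) (hN' : A ≤ stab ρ N') (hN : A ≤ stab ρ N) :
    ∃ v ∈ N, v ∉ N' ∧ ∀ a ∈ A, ρ a v - v ∈ N' := by
  haveI : Fact (Nat.Prime 2) := ⟨Nat.prime_two⟩
  let Q := N ⧸ N'.submoduleOf N
  let op : A → N →ₗ[ZMod 2] N := fun a => (ρ (a : G)).restrict fun u hu => apply_mem_of_stab (hN a.2) hu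
  have hop : ∀ a, N'.submoduleOf N ≤ (N'.submoduleOf N).comap (op a) :=
    fun a u hu => apply_mem_of_stab (hN' a.2) hu
  letI : MulAction A Q :=
    { smul := fun a q => Submodule.mapQ _ _ (op a) (hop a) q
      one_smul := fun q => by
        induction q using Submodule.Quotient.induction_on with
        | _ x =>
          show Submodule.Quotient.mk (op 1 x) = _
          refine congrArg _ (Subtype.ext ?_)
          show ρ 1 (x : V) = x
          rw [map_one]; rfl
      mul_smul := fun a b q => by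
        induction q using Submodule.Quotient.induction_on with
        | _ x =>
          show Submodule.Quotient.mk (op (a * b) x) = Submodule.Quotient.mk (op a (op b x))
          refine congrArg _ (Subtype.ext ?_)
          exact rho_mul ρ (a : G) b x }
  haveI : Finite Q := Finite.of_surjective _ (Submodule.Quotient.mk_surjective _)
  have hnt : Nontrivial Q := by
    obtain ⟨x, hx, hx'⟩ := SetLike.exists_of_lt hlt
    exact ⟨Submodule.Quotient.mk ⟨x, hx⟩, 0, fun h => hx' ((Submodule.Quotient.mk_eq_zero (N'.submoduleOf N)).mp h)⟩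
  have hdvd : 2 ∣ Nat.card Q := by
    obtain ⟨n, hn⟩ : ∃ n, Nat.card Q = 2 ^ n := ⟨_, by rw [Module.natCard_eq_pow_finrank (K := ZMod 2), Nat.card_zmod]⟩
    have h1 : 1 < Nat.card Q := Finite.one_lt_card
    rw [hn] at h1 ⊢
    exact dvd_pow_self 2 (by rintro rfl; simp at h1)
  have hfix0 : (0 : Q) ∈ MulAction.fixedPoints A Q := fun a => map_zero (Submodule.mapQ _ _ (op a) (hop a))
  obtain ⟨q, hq, hq0⟩ := hA.exists_fixed_point_of_prime_dvd_card_of_fixed_point Q hdvd hfix0
  obtain ⟨⟨x, hx⟩, rfl⟩ := Submodule.Quotient.mk_surjective _ q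
  refine ⟨x, hx, fun h => hq0 ((Submodule.Quotient.mk_eq_zero (N'.submoduleOf N)).mpr h).symm, fun a ha => ?_⟩
  exact (Submodule.Quotient.eq (N'.submoduleOf N)).mp (hq ⟨a, ha⟩)

variable (ρ)

/-- An offender. -/
def Off (A : Subgroup G) : Prop :=
  Cfsg.IsElementaryAbelian 2 A ∧ A ≠ ⊥ ∧ Nat.card V ≤ Nat.card A * Nat.card (fixd ρ A)

/-- A minimal offender. -/
def MinOff (A : Subgroup G) : Prop := Off ρ A ∧ ∀ B, B < A → ¬ Off ρ B

/-- The subgroup generated by the minimal offenders in `D`. -/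
def jgen (D : Subgroup G) : Subgroup G := ⨆ A : {A : Subgroup G // MinOff ρ A ∧ A ≤ D}, A.1

variable {ρ}

theorem el_le {A B : Subgroup G} (hA : Cfsg.IsElementaryAbelian 2 A) (h : B ≤ A) :
    Cfsg.IsElementaryAbelian 2 B :=
  ⟨⟨⟨fun x y => Subtype.ext (congrArg Subtype.val (hA.1.is_comm.comm ⟨x, h x.2⟩ ⟨y, h y.2⟩) :)⟩⟩,
    fun x hx => hA.2 x (h hx)⟩

theorem el_comm {A : Subgroup G} (hA : Cfsg.IsElementaryAbelian 2 A) {a b : G} (ha : a ∈ A)
    (hb : b ∈ A) : a * b = b * a :=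
  congrArg Subtype.val (hA.1.is_comm.comm ⟨a, ha⟩ ⟨b, hb⟩)

theorem el_inv {A : Subgroup G} (hA : Cfsg.IsElementaryAbelian 2 A) {a : G} (ha : a ∈ A) :
    a⁻¹ = a := inv_eq_of_mul_eq_one_right (by rw [← pow_two]; exact hA.2 a ha)

theorem el_isPGroup {A : Subgroup G} (hA : Cfsg.IsElementaryAbelian 2 A) : IsPGroup 2 A :=
  fun a => ⟨1, Subtype.ext (by rw [pow_one, SubmonoidClass.coe_pow]; exact hA.2 a a.2)⟩

theorem MinOff.isPGroup {A : Subgroup G} (h : MinOff ρ A) : IsPGroup 2 A := el_isPGroup h.1.1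

theorem le_jgen {A D : Subgroup G} (hA : MinOff ρ A) (h : A ≤ D) : A ≤ jgen ρ D :=
  le_iSup (fun A : {A : Subgroup G // MinOff ρ A ∧ A ≤ D} => A.1) ⟨A, hA, h⟩

theorem jgen_le (D : Subgroup G) : jgen ρ D ≤ D := iSup_le fun A => A.2.2

theorem jgen_mono {D D' : Subgroup G} (h : D ≤ D') : jgen ρ D ≤ jgen ρ D' :=
  iSup_le fun A => le_jgen A.2.1 (A.2.2.trans h)

theorem jgen_eq_of_forall {D D' : Subgroup G} (h : D' ≤ D)
    (hall : ∀ A, MinOff ρ A → A ≤ D → A ≤ D') : jgen ρ D' = jgen ρ D :=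
  le_antisymm (jgen_mono h) (iSup_le fun A => le_jgen A.2.1 (hall A.1 A.2.1 A.2.2))

theorem el_cj {A : Subgroup G} (hA : Cfsg.IsElementaryAbelian 2 A) (g : G) :
    Cfsg.IsElementaryAbelian 2 (MulAut.conj g • A) := by
  refine ⟨⟨⟨fun x y => Subtype.ext ?_⟩⟩, fun x hx => ?_⟩
  · have := el_comm hA (mem_cj.mp x.2) (mem_cj.mp y.2)
    show (x : G) * y = y * x
    calc (x : G) * y = g * ((g⁻¹ * x * g) * (g⁻¹ * y * g)) * g⁻¹ := by group
      _ = g * ((g⁻¹ * y * g) * (g⁻¹ * x * g)) * g⁻¹ := by rw [this]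
      _ = y * x := by group
  · have := hA.2 _ (mem_cj.mp hx)
    rw [pow_two] at this ⊢
    calc x * x = g * ((g⁻¹ * x * g) * (g⁻¹ * x * g)) * g⁻¹ := by group
      _ = 1 := by rw [this]; group

theorem Off.cj {A : Subgroup G} (h : Off ρ A) (g : G) : Off ρ (MulAut.conj g • A) := by
  refine ⟨el_cj h.1 g, fun e => h.2.1 ?_, ?_⟩
  · rw [← inv_smul_smul (MulAut.conj g) A, e]
    exact Subgroup.smul_bot _
  · rw [card_cj, fixd_cj, card_map_rho]; exact h.2.2

theorem MinOff.cj {A : Subgroup G} (h : MinOff ρ A) (g : G) : MinOff ρ (MulAut.conj g • A) := by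
  refine ⟨h.1.cj g, fun B hB hoff => h.2 (MulAut.conj g⁻¹ • B) ?_ (hoff.cj g⁻¹)⟩
  have hmono : Function.Injective (fun H : Subgroup G => MulAut.conj g⁻¹ • H) :=
    MulAction.injective (β := Subgroup G) _
  refine lt_of_le_of_ne ?_ fun e => hB.ne (hmono ?_)
  · rw [Subgroup.pointwise_smul_subset_iff, map_inv (MulAut.conj : G →* MulAut G), inv_inv]; exact hB.le
  · show MulAut.conj g⁻¹ • B = MulAut.conj g⁻¹ • MulAut.conj g • A
    rw [smul_smul, ← map_mul, inv_mul_cancel, map_one, one_smul]; exact e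

theorem jgen_cj_le (g : G) (D : Subgroup G) :
    MulAut.conj g • jgen ρ D ≤ jgen ρ (MulAut.conj g • D) := by
  rw [Subgroup.pointwise_smul_subset_iff]
  refine iSup_le fun A => ?_
  rw [← Subgroup.pointwise_smul_subset_iff]
  exact le_jgen (A.2.1.cj g) (Subgroup.pointwise_smul_le_pointwise_smul_iff.mpr A.2.2)

theorem normalizer_le_jgen [Finite G] (D : Subgroup G) :
    normalizer (D : Set G) ≤ normalizer (jgen ρ D : Set G) := fun g hg => by
  rw [Grp.mem_normalizer_iff_smul] at hg ⊢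
  refine Subgroup.eq_of_le_of_card_ge ?_ (card_cj g _).ge
  refine (jgen_cj_le g D).trans_eq ?_
  rw [hg]

theorem exists_minOff [Finite G] {A : Subgroup G} (hA : Off ρ A) : ∃ B ≤ A, MinOff ρ B := by
  obtain ⟨B, ⟨hB, hBA⟩, hmin⟩ := Set.exists_min_image {B : Subgroup G | Off ρ B ∧ B ≤ A}
    (fun B => Nat.card B) (Set.toFinite _) ⟨A, hA, le_rfl⟩
  refine ⟨B, hBA, hB, fun C hC hoff => ?_⟩
  have h := hmin C ⟨hoff, hC.le.trans hBA⟩
  exact hC.ne (Subgroup.eq_of_le_of_card_ge hC.le h)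

/-- The weight of a minimal offender dominates that of its subgroups. -/
theorem MinOff.weight [Finite G] [Finite V] {A : Subgroup G} (h : MinOff ρ A) {B : Subgroup G}
    (hB : B ≤ A) : Nat.card B * Nat.card (fixd ρ B) ≤ Nat.card A * Nat.card (fixd ρ A) := by
  rcases hB.eq_or_lt with rfl | hlt
  · exact le_rfl
  rcases eq_or_ne B ⊥ with rfl | hne
  · rw [Subgroup.card_bot, one_mul]; exact (card_le_top _).trans h.1.2.2
  by_contra hcon
  push Not at hcon
  exact h.2 B hlt ⟨el_le h.1.1 hB, hne, h.1.2.2.trans hcon.le⟩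

/-- A minimal offender acts quadratically. -/
theorem MinOff.quadratic [Finite G] [Finite V] {A : Subgroup G} (h : MinOff ρ A) {a : G}
    (ha : a ∈ A) (z : V) : ρ a z + z ∈ fixd ρ A := by
  by_contra hz
  have hcomm : ∀ x ∈ A, ∀ y ∈ A, ∀ v : V, ρ x (ρ y v) = ρ y (ρ x v) := fun x hx y hy v => by
    rw [← rho_mul, ← rho_mul, el_comm h.1.1 hx hy]
  have hsq : ∀ x ∈ A, ∀ v : V, ρ x (ρ x v + v) = ρ x v + v := fun x hx v => by
    have : ρ x (ρ x v) = v := by
      conv_rhs => rw [← rho_inv_apply ρ x v, el_inv h.1.1 hx]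
    rw [map_add, this, add_comm]
  set C := fixd ρ A with hC
  let d : G → V := fun x => ρ x z + z
  let B : Subgroup G :=
    { carrier := {b | b ∈ A ∧ d b ∈ C}
      mul_mem' := fun {x y} hx hy => ⟨A.mul_mem hx.1 hy.1, by
        have e : d (x * y) = d x + d y := by
          show ρ (x * y) z + z = _
          have h1 := hy.2 x hx.1
          rw [map_add, add_comm] at h1
          rw [rho_mul]
          calc ρ x (ρ y z) + z = ρ x (ρ y z) + (ρ x z + ρ x z) + z := by rw [add_self_zero, add_zero]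
            _ = (ρ x z + ρ x (ρ y z)) + (ρ x z + z) := by abel
            _ = d x + d y := by rw [h1, add_comm]
        rw [e]; exact C.add_mem hx.2 hy.2⟩
      one_mem' := ⟨A.one_mem, by
        show ρ 1 z + z ∈ C
        rw [map_one]; exact (add_self_zero z).symm ▸ C.zero_mem⟩
      inv_mem' := fun {x} hx => by rw [el_inv h.1.1 hx.1]; exact hx }
  have hBA : B ≤ A := fun b hb => hb.1
  have hBlt : B < A := lt_of_le_of_ne hBA fun e => hz (e.symm ▸ ha : a ∈ B).2
  -- the images of `z` are fixed by `B`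
  have hdB : ∀ x ∈ A, d x ∈ fixd ρ B := fun x hx b hb => by
    have h1 := hb.2 x hx
    show ρ b (ρ x z + z) = ρ x z + z
    rw [map_add, hcomm x hx b hb.1] at h1
    rw [map_add]
    calc ρ b (ρ x z) + ρ b z = (ρ b (ρ x z) + ρ x z) + ρ x z + ρ b z := by
          rw [add_assoc (ρ b (ρ x z)), add_self_zero, add_zero]
      _ = (ρ b z + z) + ρ x z + ρ b z := by rw [h1]
      _ = (ρ b z + ρ b z) + (ρ x z + z) := by abel
      _ = ρ x z + z := by rw [add_self_zero, zero_add]
  let Ψ : A ⧸ B.subgroupOf A → fixd ρ B ⧸ C.submoduleOf (fixd ρ B) :=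
    fun q => Submodule.Quotient.mk ⟨d q.out, hdB _ q.out.2⟩
  have hkey : ∀ x ∈ A, ∀ y ∈ A, d x + d y ∈ C → x * y ∈ B := fun x hx y hy hxy => by
    refine ⟨A.mul_mem hx hy, ?_⟩
    have h1 := hxy x hx
    rw [map_add, hsq x hx z] at h1
    have h2 : ρ x (d y) = d y := add_left_cancel h1
    have e : d (x * y) = d x + d y := by
      show ρ (x * y) z + z = _
      rw [rho_mul]
      rw [map_add] at h2
      calc ρ x (ρ y z) + z = ρ x (ρ y z) + (ρ x z + ρ x z) + z := by rw [add_self_zero, add_zero]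
        _ = (ρ x (ρ y z) + ρ x z) + (ρ x z + z) := by abel
        _ = d x + d y := by rw [h2, add_comm]
    rw [e]; exact hxy
  have hinj : Function.Injective Ψ := by
    intro p q hpq
    have h1 : d p.out - d q.out ∈ C := (Submodule.Quotient.eq (C.submoduleOf (fixd ρ B))).mp hpq
    rw [sub_eq_add'] at h1
    have h2 := hkey _ p.out.2 _ q.out.2 h1
    rw [← Quotient.out_eq' p, ← Quotient.out_eq' q]
    refine QuotientGroup.eq.mpr ?_
    show ((p.out : A) : G)⁻¹ * ((q.out : A) : G) ∈ B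
    rw [el_inv h.1.1 p.out.2]; exact h2
  have hCB : C ≤ fixd ρ B := fixd_anti hBA
  haveI : Finite (fixd ρ B ⧸ C.submoduleOf (fixd ρ B)) :=
    Finite.of_surjective _ (Submodule.Quotient.mk_surjective _)
  have hcard := Nat.card_le_card_of_injective Ψ hinj
  have hsplit : Nat.card (fixd ρ B) = Nat.card (fixd ρ B ⧸ C.submoduleOf (fixd ρ B)) * Nat.card C := by
    rw [Submodule.card_eq_card_quotient_mul_card (C.submoduleOf (fixd ρ B)), mul_comm]
    congr 1
    exact Nat.card_congr (Submodule.submoduleOfEquivOfLe hCB).toEquiv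
  have hAB : Nat.card A = Nat.card (A ⧸ B.subgroupOf A) * Nat.card B := by
    rw [Subgroup.card_eq_card_quotient_mul_card_subgroup (B.subgroupOf A)]
    congr 1
    exact Nat.card_congr (Subgroup.subgroupOfEquivOfLe hBA).toEquiv
  have hoff : Nat.card V ≤ Nat.card B * Nat.card (fixd ρ B) := by
    refine h.1.2.2.trans ?_
    rw [hAB, hsplit]
    calc _ = Nat.card (A ⧸ B.subgroupOf A) * (Nat.card B * Nat.card C) := by rw [mul_assoc]
      _ ≤ Nat.card (fixd ρ B ⧸ C.submoduleOf (fixd ρ B)) * (Nat.card B * Nat.card C) :=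
          Nat.mul_le_mul_right _ hcard
      _ = _ := by ring
  by_cases hB1 : B = ⊥
  · -- then `Ψ` is onto `V / C`
    have hBtop : fixd ρ B = ⊤ := eq_top_iff.mpr fun v _ b hb => by
      rw [hB1, Subgroup.mem_bot] at hb; rw [hb, map_one]; rfl
    have h2 : Nat.card (fixd ρ B ⧸ C.submoduleOf (fixd ρ B)) * Nat.card C ≤
        Nat.card (A ⧸ B.subgroupOf A) * Nat.card C := by
      rw [← hsplit, hBtop, card_top']
      refine h.1.2.2.trans (le_of_eq ?_)
      rw [hAB, hB1, Subgroup.card_bot, mul_one, ← hB1]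
    have hbij : Function.Bijective Ψ := by
      refine (Nat.bijective_iff_injective_and_card Ψ).mpr ⟨hinj, le_antisymm hcard ?_⟩
      exact Nat.le_of_mul_le_mul_right h2 Nat.card_pos
    obtain ⟨q, hq⟩ := hbij.2 (Submodule.Quotient.mk ⟨z, hBtop ▸ Submodule.mem_top⟩)
    have h1 : d q.out - z ∈ C := (Submodule.Quotient.eq (C.submoduleOf (fixd ρ B))).mp hq
    rw [sub_eq_add'] at h1
    have h3 := h1 _ q.out.2
    rw [map_add, hsq _ q.out.2] at h3
    have h4 : ρ (q.out : A) z = z := add_left_cancel h3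
    have h5 : d q.out = 0 := by show ρ _ z + z = 0; rw [h4]; exact add_self_zero z
    rw [h5, zero_add] at h1
    exact hz (C.add_mem (by rw [h1 a ha]; exact h1) h1)
  · exact h.2 B hBlt ⟨el_le h.1.1 hBA, hB1, hoff⟩

end Cfsg.Agent.Invol.NoOff
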