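import Cfsg.Agent.Lib.Invol.NoOff.Basic

/-!
The bound for a sum of conjugates of a subspace.
-/

set_option autoImplicit false
set_option linter.unusedSectionVars false
set_option linter.style.haveILetI false

namespace Cfsg.Agent.Invol.NoOff

open Subgroup
open scoped Pointwise

universe u v

variable {G : Type u} [Group G] [Finite G] {V : Type v} [AddCommGroup V] [Module (ZMod 2) V]
  [Finite V] {ρ : Representation (ZMod 2) G V}

theorem fixg_map (g : G) (U : Submodule (ZMod 2) V) :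
    fixg ρ (U.map (ρ g)) = MulAut.conj g • fixg ρ U := by
  ext x
  rw [mem_cj]
  constructor
  · intro hx u hu
    rw [rho_mul, rho_mul, hx _ ⟨u, hu, rfl⟩, rho_inv_apply]
  · rintro hx _ ⟨u, hu, rfl⟩
    have := congrArg (ρ g) (hx u hu)
    rwa [rho_mul, rho_mul, rho_apply_inv] at this

theorem map_inf_fixd (g : G) (U : Submodule (ZMod 2) V) (E : Subgroup G) :
    (U ⊓ fixd ρ E).map (ρ g) = U.map (ρ g) ⊓ fixd ρ (MulAut.conj g • E) := by
  rw [Submodule.map_inf _ (rho_injective ρ g), fixd_cj]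

theorem fixg_sup (U U' : Submodule (ZMod 2) V) : fixg ρ (U ⊔ U') = fixg ρ U ⊓ fixg ρ U' := by
  refine le_antisymm (le_inf (fixg_anti le_sup_left) (fixg_anti le_sup_right)) ?_
  intro x hx v hv
  obtain ⟨a, ha, b, hb, rfl⟩ := Submodule.mem_sup.mp hv
  rw [map_add, hx.1 a ha, hx.2 b hb]

theorem le_fixd_inf_fixg (E : Subgroup G) (U : Submodule (ZMod 2) V) :
    U ≤ fixd ρ (E ⊓ fixg ρ U) := fun _ hu _ he => he.2 _ hu

/-- If no subgroup of `R` offends on any of the subspaces `c i`, none offends on their sum. -/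
theorem chain_bound {ι : Type*} [DecidableEq ι] (c : ι → Submodule (ZMod 2) V) {R : Subgroup G}
    (hb : ∀ i, ∀ E ≤ R, (fixg ρ (c i)).relIndex E * Nat.card ↥(c i ⊓ fixd ρ E) ≤ Nat.card (c i) ∧
      (¬ E ≤ fixg ρ (c i) →
        (fixg ρ (c i)).relIndex E * Nat.card ↥(c i ⊓ fixd ρ E) < Nat.card (c i)))
    (s : Finset ι) : ∀ E ≤ R,
      (fixg ρ (s.sup c)).relIndex E * Nat.card ↥(s.sup c ⊓ fixd ρ E) ≤ Nat.card ↥(s.sup c) ∧
      (¬ E ≤ fixg ρ (s.sup c) →
        (fixg ρ (s.sup c)).relIndex E * Nat.card ↥(s.sup c ⊓ fixd ρ E) < Nat.card ↥(s.sup c)) := by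
  induction s using Finset.induction_on with
  | empty =>
    intro E _
    have h1 : E ≤ fixg ρ ((∅ : Finset ι).sup c) := fun x _ v hv => by
      rw [Finset.sup_empty, Submodule.mem_bot] at hv
      rw [hv, map_zero]
    rw [Subgroup.relIndex_eq_one.mpr h1, one_mul]
    exact ⟨card_mono inf_le_left, fun h => absurd h1 h⟩
  | @insert i s _ ih =>
    intro E hE
    rw [Finset.sup_insert]
    set U := s.sup c with hU
    set d := c i with hd
    set E1 := E ⊓ fixg ρ U with hE1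
    obtain ⟨hle2, hlt2⟩ := ih E hE
    obtain ⟨hle1, hlt1⟩ := hb i E1 (inf_le_left.trans hE)
    set r1 := (fixg ρ d).relIndex E1
    set r2 := (fixg ρ U).relIndex E
    have hr : (fixg ρ (d ⊔ U)).relIndex E = r1 * r2 := by
      have h1 : r2 = E1.relIndex E := by
        rw [hE1, inf_comm, Subgroup.inf_relIndex_right]
      have h2 : r1 = ((fixg ρ d) ⊓ E1).relIndex E1 := (Subgroup.inf_relIndex_right _ _).symm
      rw [h1, h2, Subgroup.relIndex_mul_relIndex _ E1 E inf_le_right inf_le_left, fixg_sup,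
        ← Subgroup.inf_relIndex_right (fixg ρ d ⊓ fixg ρ U) E]
      congr 1
      rw [hE1, inf_assoc, inf_comm E (fixg ρ U)]
    set X := (d ⊔ U) ⊓ fixd ρ E
    set Y := U ⊔ (d ⊓ fixd ρ E1)
    have hUf : U ≤ fixd ρ E1 := le_fixd_inf_fixg E U
    have hXY : X ⊔ U ≤ Y := by
      refine sup_le (fun v hv => ?_) le_sup_left
      obtain ⟨a, ha, b, hb', rfl⟩ := Submodule.mem_sup.mp hv.1
      have h1 : a + b ∈ fixd ρ E1 := fixd_anti inf_le_left hv.2
      have h2 : a ∈ fixd ρ E1 := by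
        have := (fixd ρ E1).sub_mem h1 (hUf hb')
        rwa [add_sub_cancel_right] at this
      rw [add_comm]
      exact Submodule.mem_sup.mpr ⟨b, hb', a, ⟨ha, h2⟩, rfl⟩
    have hXU : X ⊓ U = U ⊓ fixd ρ E := by
      rw [show X ⊓ U = ((d ⊔ U) ⊓ U) ⊓ fixd ρ E from inf_right_comm _ _ _,
        inf_eq_right.mpr (le_sup_right : U ≤ d ⊔ U)]
    have e1 : Nat.card X * Nat.card U ≤ Nat.card Y * Nat.card ↥(U ⊓ fixd ρ E) := by
      rw [← card_sup_mul_inf X U, hXU]
      exact Nat.mul_le_mul_right _ (card_mono hXY)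
    have e2 : Nat.card Y * Nat.card ↥(d ⊓ U) = Nat.card U * Nat.card ↥(d ⊓ fixd ρ E1) := by
      rw [← card_sup_mul_inf U (d ⊓ fixd ρ E1)]
      congr 2
      rw [inf_comm d U, inf_left_comm U d, inf_eq_left.mpr hUf, inf_comm]
    have e3 : Nat.card ↥(d ⊔ U) * Nat.card ↥(d ⊓ U) = Nat.card d * Nat.card U := card_sup_mul_inf d U
    have hpos : 0 < Nat.card U * Nat.card ↥(d ⊓ U) := Nat.mul_pos Nat.card_pos Nat.card_pos
    have key : r1 * r2 * Nat.card X * (Nat.card U * Nat.card ↥(d ⊓ U)) ≤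
        (r1 * Nat.card ↥(d ⊓ fixd ρ E1)) * (r2 * Nat.card ↥(U ⊓ fixd ρ E)) * Nat.card U := by
      calc r1 * r2 * Nat.card X * (Nat.card U * Nat.card ↥(d ⊓ U))
          = r1 * r2 * ((Nat.card X * Nat.card U) * Nat.card ↥(d ⊓ U)) := by ring
        _ ≤ r1 * r2 * ((Nat.card Y * Nat.card ↥(U ⊓ fixd ρ E)) * Nat.card ↥(d ⊓ U)) :=
            Nat.mul_le_mul_left _ (Nat.mul_le_mul_right _ e1)
        _ = r1 * r2 * ((Nat.card Y * Nat.card ↥(d ⊓ U)) * Nat.card ↥(U ⊓ fixd ρ E)) := by ring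
        _ = _ := by rw [e2]; ring
    have hgoal : Nat.card d * Nat.card U * Nat.card U =
        Nat.card ↥(d ⊔ U) * (Nat.card U * Nat.card ↥(d ⊓ U)) := by rw [← e3]; ring
    rw [hr]
    constructor
    · refine Nat.le_of_mul_le_mul_right (key.trans ?_) hpos
      rw [← hgoal]
      exact Nat.mul_le_mul_right _ (Nat.mul_le_mul hle1 hle2)
    · intro hne
      refine lt_of_mul_lt_mul_right (key.trans_lt ?_) (Nat.zero_le _)
      rw [← hgoal]
      refine Nat.mul_lt_mul_of_pos_right ?_ Nat.card_pos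
      by_cases h1 : E ≤ fixg ρ U
      · have h2 : ¬ E1 ≤ fixg ρ d := fun h => hne (by
          rw [fixg_sup]; exact le_inf ((le_inf le_rfl h1).trans h) h1)
        exact Nat.mul_lt_mul_of_lt_of_le (hlt1 h2) hle2 Nat.card_pos
      · exact Nat.mul_lt_mul_of_le_of_lt hle1 (hlt2 h1) Nat.card_pos

end Cfsg.Agent.Invol.NoOff
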