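import Cfsg.Agent.Lib.Invol.NoOff.Unique
import Cfsg.Agent.Lib.Block.SFourFree.Lift

/-!
Irreducible sections of a module for a group generated by two conjugates of a quadratic subgroup.
-/

set_option autoImplicit false
set_option linter.unusedSectionVars false
set_option linter.style.haveILetI false

namespace Cfsg.Agent.Invol.NoOff

open Subgroup Cfsg.Agent.Block.SFour
open scoped Pointwise

universe u v

/-- No offender in the reduced groups smaller than `n`. -/
def NoOffBelow (n : ℕ) : Prop :=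
  ∀ (G' : Type u) [Group G'] [Finite G'], Nat.card G' < n → NoThree G' →
    ∀ (V' : Type v) [AddCommGroup V'] [Module (ZMod 2) V'] [Finite V']
      (σ : Representation (ZMod 2) G' V'), Function.Injective σ → Cfsg.pCore 2 G' = ⊥ →
      ∀ A : Subgroup G', ¬ Off σ A

variable {G : Type u} [Group G] [Finite G] {V : Type v} [AddCommGroup V] [Module (ZMod 2) V]
  [Finite V] (ρ : Representation (ZMod 2) G V)

/-- Covering pairs of `P`-invariant subspaces. -/
def Cov (P : Subgroup G) (N' N : Submodule (ZMod 2) V) : Prop :=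
  N' < N ∧ P ≤ stab ρ N' ∧ P ≤ stab ρ N ∧
    ∀ X : Submodule (ZMod 2) V, P ≤ stab ρ X → N' ≤ X → X ≤ N → X = N' ∨ X = N

/-- The fixed points of `A` on a section. -/
def fxm (A : Subgroup G) (N' N : Submodule (ZMod 2) V) : Submodule (ZMod 2) V where
  carrier := {v | v ∈ N ∧ ∀ a ∈ A, ρ a v + v ∈ N'}
  add_mem' := fun {v w} hv hw => ⟨N.add_mem hv.1 hw.1, fun a ha => by
    rw [map_add, add_add_add_comm]; exact N'.add_mem (hv.2 a ha) (hw.2 a ha)⟩
  zero_mem' := ⟨N.zero_mem, fun a _ => by rw [map_zero, add_zero]; exact N'.zero_mem⟩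
  smul_mem' := fun c v hv => ⟨N.smul_mem c hv.1, fun a ha => by
    rw [map_smul, ← smul_add]; exact N'.smul_mem c (hv.2 a ha)⟩

variable {ρ}

theorem exists_cov_le {P : Subgroup G} {L N : Submodule (ZMod 2) V} (hlt : L < N)
    (hL : P ≤ stab ρ L) (hN : P ≤ stab ρ N) : ∃ N', L ≤ N' ∧ Cov ρ P N' N := by
  haveI : Finite (Submodule (ZMod 2) V) := Finite.of_injective _ SetLike.coe_injective
  obtain ⟨N', ⟨h1, h2, h3⟩, hmax⟩ := Set.exists_max_image
    {X : Submodule (ZMod 2) V | L ≤ X ∧ X < N ∧ P ≤ stab ρ X} (fun X => Nat.card X) (Set.toFinite _)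
    ⟨L, le_rfl, hlt, hL⟩
  refine ⟨N', h1, h2, h3, hN, fun X hX hle hXN => ?_⟩
  rcases hXN.eq_or_lt with h | h
  · exact Or.inr h
  · refine Or.inl (le_antisymm ?_ hle)
    by_contra hcon
    exact (card_lt (lt_of_le_not_ge hle hcon)).not_ge (hmax X ⟨h1.trans hle, h, hX⟩)

/-- An element of odd order trivial on all factors fixes everything. -/
theorem fixes_of_trivial_factors {P : Subgroup G} {g : G} (hg : g ∈ P) (ho : Odd (orderOf g))
    {L U : Submodule (ZMod 2) V} (hL : P ≤ stab ρ L) (hLU : L ≤ U) (hgL : g ∈ fixg ρ L)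
    (hU : P ≤ stab ρ U)
    (htriv : ∀ N' N, Cov ρ P N' N → L ≤ N' → N ≤ U → ∀ v ∈ N, ρ g v + v ∈ N') :
    g ∈ fixg ρ U := by
  suffices key : ∀ (n : ℕ) (X : Submodule (ZMod 2) V), Nat.card X = n → P ≤ stab ρ X → L ≤ X →
      X ≤ U → ∀ v ∈ X, ρ g v = v from fun v hv => key _ U rfl hU hLU le_rfl v hv
  intro n
  induction n using Nat.strong_induction_on with
  | _ n ih =>
  intro X hn hX hLX hXU v hv
  rcases hLX.eq_or_lt with rfl | hlt
  · exact hgL v hv
  obtain ⟨N', hLN', hcov⟩ := exists_cov_le (P := P) hlt hL hX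
  have hd := htriv N' X hcov hLN' hXU v hv
  have hfix := ih _ (hn ▸ card_lt hcov.1) N' rfl hcov.2.1 hLN' (hcov.1.le.trans hXU)
  have hpow : ∀ m : ℕ, ρ (g ^ m) v = v + m • (ρ g v + v) := by
    intro m
    induction m with
    | zero => simp
    | succ m ihm =>
      rw [pow_succ', rho_mul, ihm, map_add, map_nsmul, hfix _ hd, succ_nsmul]
      calc ρ g v + m • (ρ g v + v) = (v + v) + ρ g v + m • (ρ g v + v) := by
            rw [add_self_zero, zero_add]
        _ = v + (m • (ρ g v + v) + (ρ g v + v)) := by abel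
  have h1 := hpow (orderOf g)
  rw [pow_orderOf_eq_one, map_one] at h1
  obtain ⟨q, hq⟩ := ho
  rw [hq, succ_nsmul, two_mul, add_nsmul, add_self_zero, zero_add] at h1
  have h2 : ρ g v + v = 0 := by
    have h3 : v + 0 = v + (ρ g v + v) := by rw [add_zero]; exact h1
    exact (add_left_cancel h3).symm
  rw [← neg_eq_self v]
  exact eq_neg_of_add_eq_zero_left (by rw [neg_eq_self]; exact h2)

/-- A normal 2-subgroup is trivial on an irreducible section. -/
theorem pnormal_trivial {P R : Subgroup G} {N' N : Submodule (ZMod 2) V} (hcov : Cov ρ P N' N)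
    (hR : IsPGroup 2 R) (hRP : R ≤ P) (hRn : P ≤ normalizer (R : Set G)) :
    ∀ r ∈ R, ∀ v ∈ N, ρ r v + v ∈ N' := by
  obtain ⟨hlt, hN', hN, hmax⟩ := hcov
  have hinv : P ≤ stab ρ (fxm ρ R N' N) := fun g hg => mem_stab_of_forall fun v hv => by
    refine ⟨apply_mem_of_stab (hN hg) hv.1, fun r hr => ?_⟩
    have h1 := apply_mem_of_stab (hN' hg) (hv.2 _ (Grp.mem_conj_normalizer' (hRn hg) hr))
    rwa [map_add, rho_mul, rho_mul, rho_apply_inv] at h1
  rcases hmax _ hinv (fun v hv => ⟨hlt.le hv, fun r hr =>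
      N'.add_mem (apply_mem_of_stab (hN' (hRP hr)) hv) hv⟩) (fun v hv => hv.1) with h | h
  · obtain ⟨v, hv, hv', hfix⟩ := exists_fixed_mod (ρ := ρ) hR hlt (hRP.trans hN') (hRP.trans hN)
    exact absurd (h ▸ (⟨hv, fun r hr => by rw [← sub_eq_add']; exact hfix r hr⟩ :
      v ∈ fxm ρ R N' N)) hv'
  · intro r hr v hv
    rw [← h] at hv
    exact hv.2 r hr

theorem exists_kerLift {H : Type u} [Group H] {W : Type v} [AddCommGroup W] [Module (ZMod 2) W]
    (σ : H →* Module.End (ZMod 2) W) :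
    ∃ σ' : Representation (ZMod 2) (H ⧸ MonoidHom.ker σ) W,
      (∀ (a : H) (q : W), σ' (a : H ⧸ MonoidHom.ker σ) q = σ a q) ∧ Function.Injective σ' :=
  by
  refine ⟨QuotientGroup.lift (MonoidHom.ker σ) σ le_rfl, fun a q => rfl, ?_⟩
  intro x y h
  induction x using QuotientGroup.induction_on
  induction y using QuotientGroup.induction_on
  rename_i a b
  have h' : σ a = σ b := h
  refine QuotientGroup.eq.mpr ?_
  rw [MonoidHom.mem_ker, map_mul, ← h', ← map_mul, inv_mul_cancel, map_one]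

variable (ρ) in
/-- The kernel of a section. -/
def kern (P : Subgroup G) (N' N : Submodule (ZMod 2) V) : Subgroup G where
  carrier := {g | g ∈ P ∧ (g ∈ stab ρ N' ∧ g ∈ stab ρ N) ∧ ∀ v ∈ N, ρ g v + v ∈ N'}
  mul_mem' := fun {g h} hg hh => ⟨P.mul_mem hg.1 hh.1,
    ⟨(stab ρ N').mul_mem hg.2.1.1 hh.2.1.1, (stab ρ N).mul_mem hg.2.1.2 hh.2.1.2⟩, fun v hv => by
      have h1 := N'.add_mem (hg.2.2 _ (apply_mem_of_stab hh.2.1.2 hv)) (hh.2.2 v hv)
      rw [rho_mul]
      rwa [show ρ g (ρ h v) + ρ h v + (ρ h v + v) = ρ g (ρ h v) + v + (ρ h v + ρ h v) by abel,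
        add_self_zero, add_zero] at h1⟩
  one_mem' := ⟨P.one_mem, ⟨(stab ρ N').one_mem, (stab ρ N).one_mem⟩, fun v _ => by
    rw [map_one]; exact (add_self_zero v).symm ▸ N'.zero_mem⟩
  inv_mem' := fun {g} hg => ⟨P.inv_mem hg.1,
    ⟨(stab ρ N').inv_mem hg.2.1.1, (stab ρ N).inv_mem hg.2.1.2⟩, fun v hv => by
      have h1 := hg.2.2 _ (apply_mem_of_stab ((stab ρ N).inv_mem hg.2.1.2) hv)
      rw [rho_apply_inv] at h1
      rwa [add_comm]⟩

theorem mem_kern {P : Subgroup G} {N' N : Submodule (ZMod 2) V} (hN' : P ≤ stab ρ N')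
    (hN : P ≤ stab ρ N) {g : G} : g ∈ kern ρ P N' N ↔ g ∈ P ∧ ∀ v ∈ N, ρ g v + v ∈ N' :=
  ⟨fun h => ⟨h.1, h.2.2⟩, fun h => ⟨h.1, ⟨hN' h.1, hN h.1⟩, h.2⟩⟩

theorem kern_le (P : Subgroup G) (N' N : Submodule (ZMod 2) V) : kern ρ P N' N ≤ P :=
  fun _ h => h.1

theorem le_normalizer_kern {P : Subgroup G} {N' N : Submodule (ZMod 2) V} (hN' : P ≤ stab ρ N')
    (hN : P ≤ stab ρ N) : P ≤ normalizer (kern ρ P N' N : Set G) := by
  intro g hg
  rw [Grp.mem_normalizer_iff_smul]
  refine Subgroup.eq_of_le_of_card_ge ?_ (card_cj g _).ge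
  intro x hx
  obtain ⟨hxP, hxv⟩ := (mem_kern hN' hN).mp (mem_cj.mp hx)
  refine (mem_kern hN' hN).mpr ⟨?_, fun v hv => ?_⟩
  · have := P.mul_mem (P.mul_mem hg hxP) (P.inv_mem hg)
    simpa [mul_assoc] using this
  · have h1 := apply_mem_of_stab (hN' hg) (hxv _ (apply_mem_of_stab ((hN) (P.inv_mem hg)) hv))
    rwa [map_add, rho_mul, rho_mul, rho_apply_inv, rho_apply_inv] at h1

set_option maxHeartbeats 1600000 in
/-- The bound on an irreducible section moved by a group generated by two conjugates of `A`. -/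
theorem factor_bound {n : ℕ} (IH : NoOffBelow.{u, v} n) (hnt : NoThree G) {P A : Subgroup G}
    (hP : Nat.card P < n) (hA : Cfsg.IsElementaryAbelian 2 A) (hAP : A ≤ P)
    (hquad : ∀ a ∈ A, ∀ v, ρ a v + v ∈ fixd ρ A) {g : G} (hg : g ∈ P)
    (hgen : P ≤ A ⊔ MulAut.conj g • A) {N' N : Submodule (ZMod 2) V} (hcov : Cov ρ P N' N)
    (hnon : ¬ P ≤ kern ρ P N' N) (hAne : ¬ A ≤ kern ρ P N' N) :
    ((kern ρ P N' N).relIndex A) ^ 2 * Nat.card N' < Nat.card N ∧
      (kern ρ P N' N).relIndex A * Nat.card (fxm ρ A N' N) < Nat.card N := by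
  haveI : Fact (Nat.Prime 2) := ⟨Nat.prime_two⟩
  obtain ⟨hlt, hN', hN, hmax⟩ := hcov
  set K := kern ρ P N' N with hK
  set A' := MulAut.conj g • A with hA'
  set CT := fxm ρ A N' N with hCT
  set CT' := fxm ρ A' N' N with hCT'
  have hA'P : A' ≤ P := (cj_le_iff hg).mpr hAP
  have hN'le : ∀ B : Subgroup G, B ≤ P → N' ≤ fxm ρ B N' N := fun B hB v hv =>
    ⟨hlt.le hv, fun b hb => N'.add_mem (apply_mem_of_stab (hN' (hB hb)) hv) hv⟩
  -- the intersection
  have hmove : ∀ X : Submodule (ZMod 2) V, P ≤ stab ρ X → N' ≤ X → X ≤ N → X ≠ N → X = N' :=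
    fun X h1 h2 h3 h4 => (hmax X h1 h2 h3).resolve_right h4
  have hinv : P ≤ stab ρ (CT ⊓ CT') := by
    refine hgen.trans (sup_le ?_ ?_) <;> intro a ha <;>
      refine mem_stab_of_forall fun v hv => ?_
    · have h1 : ρ a v = (ρ a v + v) + v := by rw [add_assoc, add_self_zero, add_zero]
      rw [h1]
      exact Submodule.add_mem _ (le_inf (hN'le A hAP) (hN'le A' hA'P) (hv.1.2 a ha)) hv
    · have h1 : ρ a v = (ρ a v + v) + v := by rw [add_assoc, add_self_zero, add_zero]
      rw [h1]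
      exact Submodule.add_mem _ (le_inf (hN'le A hAP) (hN'le A' hA'P) (hv.2.2 a ha)) hv
  have hinter : CT ⊓ CT' = N' := by
    refine hmove _ hinv (le_inf (hN'le A hAP) (hN'le A' hA'P)) (fun v hv => hv.1.1) fun e => hnon ?_
    have hboth : A ⊔ A' ≤ K := by
      refine sup_le ?_ ?_ <;> intro a ha
      · exact (mem_kern hN' hN).mpr ⟨hAP ha, fun v hv => ((e.symm ▸ hv : v ∈ CT ⊓ CT').1.2 a ha)⟩
      · exact (mem_kern hN' hN).mpr ⟨hA'P ha, fun v hv => ((e.symm ▸ hv : v ∈ CT ⊓ CT').2.2 a ha)⟩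
    exact hgen.trans hboth
  -- the sum
  have hquad' : ∀ a ∈ A', ∀ v, ρ a v + v ∈ fixd ρ A' := fun a ha v => by
    rw [hA', fixd_cj]
    refine ⟨_, hquad _ (mem_cj.mp ha) (ρ g⁻¹ v), ?_⟩
    rw [map_add, rho_mul, rho_mul, rho_apply_inv, rho_apply_inv]
  have hmem : ∀ B : Subgroup G, B ≤ P → (∀ a ∈ B, ∀ v, ρ a v + v ∈ fixd ρ B) →
      ∀ a ∈ B, ∀ v ∈ N, ρ a v + v ∈ fxm ρ B N' N := fun B hB hq a ha v hv =>
    ⟨N.add_mem (apply_mem_of_stab (hN (hB ha)) hv) hv, fun b hb => by
      rw [hq a ha v b hb, add_self_zero]; exact N'.zero_mem⟩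
  have hsinv : P ≤ stab ρ (CT ⊔ CT') := by
    refine hgen.trans (sup_le ?_ ?_) <;> intro a ha <;>
      refine mem_stab_of_forall fun v hv => ?_ <;>
      (obtain ⟨x, hx, y, hy, rfl⟩ := Submodule.mem_sup.mp hv
       have h1 : ∀ w : V, ρ a w = (ρ a w + w) + w := fun w => by
         rw [add_assoc, add_self_zero, add_zero]
       rw [h1 (x + y)]
       refine Submodule.add_mem _ ?_ hv
       have hxyN : x + y ∈ N := N.add_mem hx.1 hy.1)
    · exact Submodule.mem_sup_left (hmem A hAP hquad a ha _ hxyN)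
    · exact Submodule.mem_sup_right (hmem A' hA'P hquad' a ha _ hxyN)
  have hsum : CT ⊔ CT' = N := by
    refine (hmax _ hsinv (le_trans (hN'le A hAP) le_sup_left)
      (sup_le (fun v hv => hv.1) (fun v hv => hv.1))).resolve_left fun e => ?_
    obtain ⟨v, hv, hv', hfix⟩ := exists_fixed_mod (ρ := ρ) (el_isPGroup hA) hlt (hAP.trans hN') (hAP.trans hN)
    exact hv' (e ▸ Submodule.mem_sup_left (show v ∈ CT from ⟨hv, fun a ha => by
      rw [← sub_eq_add']; exact hfix a ha⟩))
  have hcardT : Nat.card CT' = Nat.card CT := by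
    rw [← card_map_rho (ρ := ρ) g CT]
    congr 1
    have : CT' = CT.map (ρ g) := by
      ext v
      constructor
      · intro hv
        refine ⟨ρ g⁻¹ v, ⟨apply_mem_of_stab (hN (P.inv_mem hg)) hv.1, fun a ha => ?_⟩, rho_apply_inv ρ g v⟩
        have h1 := apply_mem_of_stab (hN' (P.inv_mem hg)) (hv.2 _ (conj_mem_cj ha))
        rwa [map_add, rho_mul, rho_mul, rho_inv_apply] at h1
      · rintro ⟨w, hw, rfl⟩
        refine ⟨apply_mem_of_stab (hN hg) hw.1, fun x hx => ?_⟩
        have h1 := apply_mem_of_stab (hN' hg) (hw.2 _ (mem_cj.mp hx))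
        rwa [map_add, rho_mul, rho_mul, rho_apply_inv] at h1
    rw [this]
  have hsq : Nat.card N * Nat.card N' = Nat.card CT * Nat.card CT := by
    conv_rhs => arg 2; rw [← hcardT]
    rw [← card_sup_mul_inf CT CT', hsum, hinter]
  -- the group acting on the section
  let Q := N ⧸ N'.submoduleOf N
  let op : P → N →ₗ[ZMod 2] N := fun a => (ρ (a : G)).restrict fun u hu => apply_mem_of_stab (hN a.2) hu
  have hop : ∀ a, N'.submoduleOf N ≤ (N'.submoduleOf N).comap (op a) :=
    fun a u hu => apply_mem_of_stab (hN' a.2) hu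
  obtain ⟨σ, hσ⟩ : ∃ σ : P →* Module.End (ZMod 2) Q,
      ∀ (a : P) (x : N), σ a (Submodule.Quotient.mk x) = Submodule.Quotient.mk (op a x) := by
    refine ⟨
    { toFun := fun a => Submodule.mapQ _ _ (op a) (hop a)
      map_one' := LinearMap.ext fun q => by
        induction q using Submodule.Quotient.induction_on with
        | _ x =>
          show Submodule.Quotient.mk (op 1 x) = _
          refine congrArg _ (Subtype.ext ?_)
          show ρ 1 (x : V) = x
          rw [map_one]; rfl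
      map_mul' := fun a b => LinearMap.ext fun q => by
        induction q using Submodule.Quotient.induction_on with
        | _ x =>
          show Submodule.Quotient.mk (op (a * b) x) = Submodule.Quotient.mk (op a (op b x))
          refine congrArg _ (Subtype.ext ?_)
          exact rho_mul ρ (a : G) b x }, fun _ _ => rfl⟩
  have hkerσ : MonoidHom.ker σ = K.subgroupOf P := by
    ext a
    rw [MonoidHom.mem_ker, Subgroup.mem_subgroupOf, hK, mem_kern hN' hN]
    constructor
    · intro h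
      refine ⟨a.2, fun v hv => ?_⟩
      have h1 := LinearMap.congr_fun h (Submodule.Quotient.mk ⟨v, hv⟩)
      rw [hσ, Module.End.one_apply, Submodule.Quotient.eq (N'.submoduleOf N)] at h1
      rw [← sub_eq_add']
      exact h1
    · intro h
      refine LinearMap.ext fun q => ?_
      induction q using Submodule.Quotient.induction_on with
      | _ x =>
        rw [hσ, Module.End.one_apply, Submodule.Quotient.eq (N'.submoduleOf N)]
        show ρ (a : G) (x : V) - x ∈ N'
        rw [sub_eq_add']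
        exact h.2 x x.2
  obtain ⟨σ', hσ', hσinj⟩ := exists_kerLift σ
  haveI : Finite Q := Finite.of_surjective _ (Submodule.Quotient.mk_surjective _)
  have hcore : Cfsg.pCore 2 (P ⧸ MonoidHom.ker σ) = ⊥ := by
    set O := Cfsg.pCore 2 (P ⧸ MonoidHom.ker σ)
    haveI : O.Normal := Grp.pCore_isNormal
    have hfix : ∀ o ∈ O, σ' o = 1 := by
      -- the fixed points of `O` form an invariant subspace
      let F : Submodule (ZMod 2) V :=
        { carrier := {v | ∃ h : v ∈ N, ∀ o ∈ O, σ' o (Submodule.Quotient.mk ⟨v, h⟩) = Submodule.Quotient.mk ⟨v, h⟩}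
          add_mem' := by
            rintro v w ⟨hv, hv'⟩ ⟨hw, hw'⟩
            refine ⟨N.add_mem hv hw, fun o ho => ?_⟩
            rw [show (⟨v + w, N.add_mem hv hw⟩ : N) = ⟨v, hv⟩ + ⟨w, hw⟩ from rfl,
              Submodule.Quotient.mk_add, map_add, hv' o ho, hw' o ho]
          zero_mem' := ⟨N.zero_mem, fun o _ => by
            show σ' o (Submodule.Quotient.mk (0 : N)) = Submodule.Quotient.mk (0 : N)
            rw [Submodule.Quotient.mk_zero, map_zero]⟩
          smul_mem' := by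
            rintro c v ⟨hv, hv'⟩
            refine ⟨N.smul_mem c hv, fun o ho => ?_⟩
            rw [show (⟨c • v, N.smul_mem c hv⟩ : N) = c • ⟨v, hv⟩ from rfl,
              Submodule.Quotient.mk_smul, map_smul, hv' o ho] }
      have hFinv : P ≤ stab ρ F := fun x hx => mem_stab_of_forall fun v hv => by
        obtain ⟨hv, hv'⟩ := hv
        refine ⟨apply_mem_of_stab (hN hx) hv, fun o ho => ?_⟩
        set xb : P ⧸ MonoidHom.ker σ := ((⟨x, hx⟩ : P) : P ⧸ MonoidHom.ker σ)
        have e1 : (Submodule.Quotient.mk ⟨ρ x v, apply_mem_of_stab (hN hx) hv⟩ : Q) =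
            σ' xb (Submodule.Quotient.mk ⟨v, hv⟩) := by rw [hσ', hσ]; rfl
        have h2 := hv' _ ((inferInstance : O.Normal).conj_mem o ho xb⁻¹)
        rw [inv_inv, map_mul, map_mul, Module.End.mul_apply, Module.End.mul_apply] at h2
        rw [e1]
        have h3 := congrArg (σ' xb) h2
        rwa [← Module.End.mul_apply (σ' xb), ← map_mul, mul_inv_cancel, map_one,
          Module.End.one_apply] at h3
      have hN'F : N' ≤ F := fun v hv => ⟨hlt.le hv, fun o _ => by
        rw [(Submodule.Quotient.mk_eq_zero (N'.submoduleOf N)).mpr (show (⟨v, hlt.le hv⟩ : N) ∈ N'.submoduleOf N from hv),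
          map_zero]⟩
      have hFN : F = N := by
        refine (hmax F hFinv hN'F (fun v hv => hv.1)).resolve_left fun e => ?_
        -- a nontrivial fixed point
        letI : MulAction O Q :=
          { smul := fun o q => σ' (o : P ⧸ MonoidHom.ker σ) q
            one_smul := fun q => by show σ' 1 q = q; rw [map_one]; rfl
            mul_smul := fun a b q => by
              show σ' ((a : P ⧸ MonoidHom.ker σ) * b) q = σ' a (σ' b q)
              rw [map_mul]; rfl }
        have hnt' : Nontrivial Q := by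
          obtain ⟨x, hx, hx'⟩ := SetLike.exists_of_lt hlt
          exact ⟨Submodule.Quotient.mk ⟨x, hx⟩, 0,
            fun h => hx' ((Submodule.Quotient.mk_eq_zero (N'.submoduleOf N)).mp h)⟩
        have hdvd : 2 ∣ Nat.card Q := by
          have h1 : 1 < Nat.card Q := Finite.one_lt_card
          rw [Module.natCard_eq_pow_finrank (K := ZMod 2), Nat.card_zmod] at h1 ⊢
          exact dvd_pow_self 2 (by intro h0; rw [h0] at h1; simp at h1)
        obtain ⟨q, hq, hq0⟩ := (Grp.pCore_isPGroup : IsPGroup 2 O).exists_fixed_point_of_prime_dvd_card_of_fixed_point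
          Q hdvd (a := 0) fun o => map_zero (σ' (o : P ⧸ MonoidHom.ker σ))
        obtain ⟨⟨x, hx⟩, rfl⟩ := Submodule.Quotient.mk_surjective _ q
        have hxF : x ∈ F := ⟨hx, fun o ho => hq ⟨o, ho⟩⟩
        rw [e] at hxF
        exact hq0 ((Submodule.Quotient.mk_eq_zero (N'.submoduleOf N)).mpr hxF).symm
      intro o ho
      refine LinearMap.ext fun q => ?_
      obtain ⟨⟨x, hx⟩, rfl⟩ := Submodule.Quotient.mk_surjective _ q
      obtain ⟨_, h⟩ := (hFN.symm ▸ hx : x ∈ F)
      exact h o ho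
    rw [Subgroup.eq_bot_iff_forall]
    intro o ho
    exact hσinj ((hfix o ho).trans (map_one σ').symm)
  set A2 := (A.subgroupOf P).map (QuotientGroup.mk' (MonoidHom.ker σ)) with hA2
  have hA2card : Nat.card A2 = K.relIndex A := by
    rw [hA2, ← Subgroup.relIndex_ker, QuotientGroup.ker_mk', hkerσ,
      ← Subgroup.relIndex_map_map_of_injective _ _ P.subtype_injective,
      Subgroup.map_subgroupOf_eq_of_le (kern_le P N' N), Subgroup.map_subgroupOf_eq_of_le hAP]
  have hA2el : Cfsg.IsElementaryAbelian 2 A2 := by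
    refine ⟨⟨⟨fun x y => Subtype.ext ?_⟩⟩, fun x hx => ?_⟩
    · obtain ⟨a, ha, ha'⟩ := x.2
      obtain ⟨b, hb, hb'⟩ := y.2
      show (x : P ⧸ MonoidHom.ker σ) * y = y * x
      rw [← ha', ← hb', ← map_mul, ← map_mul]
      exact congrArg _ (Subtype.ext (el_comm hA ha hb))
    · obtain ⟨a, ha, rfl⟩ := hx
      rw [← map_pow, show a ^ 2 = 1 from Subtype.ext (by rw [SubmonoidClass.coe_pow]; exact hA.2 _ ha), map_one]
  have hA2ne : A2 ≠ ⊥ := by
    intro e
    rw [e, Subgroup.card_bot] at hA2card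
    exact hAne (Subgroup.relIndex_eq_one.mp hA2card.symm)
  have hfixcard : Nat.card CT = Nat.card (fixd σ' A2) * Nat.card N' := by
    let ψ : CT →+ Q :=
      { toFun := fun v => Submodule.Quotient.mk ⟨(v : V), v.2.1⟩
        map_zero' := rfl
        map_add' := fun _ _ => rfl }
    rw [Nat.card_congr (AddSubgroup.addGroupEquivQuotientProdAddSubgroup (s := ψ.ker)),
      Nat.card_prod, Nat.card_congr (QuotientAddGroup.quotientKerEquivRange ψ).toEquiv]
    congr 1
    · refine Nat.card_congr (Equiv.subtypeEquivProp (funext fun q => propext ?_))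
      constructor
      · rintro ⟨v, rfl⟩ x ⟨a, ha, rfl⟩
        show σ' (a : P ⧸ MonoidHom.ker σ) (Submodule.Quotient.mk (⟨(v : V), v.2.1⟩ : N)) =
          Submodule.Quotient.mk (⟨(v : V), v.2.1⟩ : N)
        rw [hσ', hσ]
        refine (Submodule.Quotient.eq (N'.submoduleOf N)).mpr ?_
        show ρ (a : G) (v : V) - v ∈ N'
        rw [sub_eq_add']; exact v.2.2 _ ha
      · intro hq
        obtain ⟨⟨x, hx⟩, rfl⟩ := Submodule.Quotient.mk_surjective _ q
        refine ⟨⟨x, hx, fun a ha => ?_⟩, rfl⟩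
        have h1 := hq _ ⟨⟨a, hAP ha⟩, ha, rfl⟩
        rw [show (QuotientGroup.mk' (MonoidHom.ker σ)) (⟨a, hAP ha⟩ : P) =
          ((⟨a, hAP ha⟩ : P) : P ⧸ MonoidHom.ker σ) from rfl, hσ', hσ] at h1
        have h2 := (Submodule.Quotient.eq (N'.submoduleOf N)).mp h1
        rw [← sub_eq_add']; exact h2
    · refine Nat.card_congr
        { toFun := fun v => ⟨((v : CT) : V), ?_⟩
          invFun := fun v => ⟨⟨(v : V), hN'le A hAP v.2⟩, ?_⟩
          left_inv := fun _ => rfl
          right_inv := fun _ => rfl }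
      · have h0 : ψ (v : CT) = 0 := v.2
        have h0' : (Submodule.Quotient.mk (⟨((v : CT) : V), (v : CT).2.1⟩ : N) : Q) = 0 := h0
        exact (Submodule.Quotient.mk_eq_zero (N'.submoduleOf N)).mp h0'
      · exact (Submodule.Quotient.mk_eq_zero (N'.submoduleOf N)).mpr
          (show (⟨(v : V), hlt.le v.2⟩ : N) ∈ N'.submoduleOf N from v.2)
  have hoff := IH (P ⧸ MonoidHom.ker σ) (lt_of_le_of_lt (Nat.card_le_card_of_surjective _
      (QuotientGroup.mk'_surjective _)) hP) ((hnt.subgroup P).quotient _) Q σ'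
    hσinj hcore A2
  have hstrict : K.relIndex A * Nat.card CT < Nat.card N := by
    by_contra hcon
    push Not at hcon
    refine hoff ⟨hA2el, hA2ne, ?_⟩
    refine Nat.le_of_mul_le_mul_right ?_ (Nat.card_pos (α := N'))
    rw [mul_assoc, ← hfixcard, hA2card]
    refine le_trans (le_of_eq ?_) hcon
    rw [Submodule.card_eq_card_quotient_mul_card (N'.submoduleOf N), mul_comm]
    congr 1
    exact (Nat.card_congr (Submodule.submoduleOfEquivOfLe hlt.le).toEquiv).symm
  refine ⟨?_, hstrict⟩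
  refine lt_of_mul_lt_mul_left ?_ (Nat.zero_le (Nat.card N))
  calc Nat.card N * (K.relIndex A ^ 2 * Nat.card N')
      = (K.relIndex A * Nat.card CT) * (K.relIndex A * Nat.card CT) := by
        rw [show Nat.card N * (K.relIndex A ^ 2 * Nat.card N') = K.relIndex A ^ 2 * (Nat.card N * Nat.card N') by ring, hsq]
        ring
    _ < Nat.card N * Nat.card N := Nat.mul_self_lt_mul_self hstrict

end Cfsg.Agent.Invol.NoOff
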