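import Mathlib

/-!
If every operator has smaller rank on `Z` than on `Y`, unless it kills `Z`, then `Y` is larger than
`Z` by at least the size of any composition factor of `Y`.
-/

set_option autoImplicit false
set_option linter.unusedSectionVars false
set_option linter.style.haveILetI false

namespace Cfsg.Agent.Invol.NoOff

open Submodule

variable {R : Type*} [Ring R]

/-- Multiplication by a scalar, additively. -/
abbrev act (M : Type*) [AddCommGroup M] [Module R M] (r : R) : M →+ M :=
  DistribSMul.toAddMonoidHom M r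

theorem card_eq_ker_mul_range {A B : Type*} [AddCommGroup A] [AddCommGroup B] (f : A →+ B) :
    Nat.card A = Nat.card f.ker * Nat.card f.range := by
  rw [AddSubgroup.card_eq_card_quotient_mul_card_addSubgroup f.ker,
    Nat.card_congr (QuotientAddGroup.quotientKerEquivRange f).toEquiv, mul_comm]

theorem exists_pow_idem {M : Type*} [Monoid M] [Finite M] (a : M) :
    ∃ n, 0 < n ∧ a ^ n * a ^ n = a ^ n := by
  obtain ⟨i, j, hij, h⟩ : ∃ i j : ℕ, i < j ∧ a ^ i = a ^ j := by
    obtain ⟨i, j, hne, h⟩ := Finite.exists_ne_map_eq_of_infinite (fun n : ℕ => a ^ n)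
    rcases hne.lt_or_gt with h' | h'
    · exact ⟨i, j, h', h⟩
    · exact ⟨j, i, h', h.symm⟩
  have hper : ∀ k l : ℕ, i ≤ k → a ^ (k + l * (j - i)) = a ^ k := by
    intro k l hk
    induction l with
    | zero => simp
    | succ l ih =>
      rw [show k + (l + 1) * (j - i) = (k - i) + j + l * (j - i) by
        rw [add_mul, one_mul]; omega, pow_add, pow_add, ← h, ← pow_add, ← pow_add,
        show k - i + i + l * (j - i) = k + l * (j - i) by omega]
      exact ih
  refine ⟨(i + 1) * (j - i), Nat.mul_pos (by omega) (by omega), ?_⟩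
  rw [← pow_add]
  refine hper _ _ (le_trans (by omega : i ≤ (i + 1) * 1) (Nat.mul_le_mul_left _ ?_))
  omega

section

variable {M : Type*} [AddCommGroup M] [Module R M] [Finite M]

/-- The image of a submodule under a scalar. -/
abbrev img (r : R) (N : Submodule R M) : AddSubgroup M := N.toAddSubgroup.map (act M r)

theorem card_img_step {e : R} (he : ∀ m : M, e • e • m = e • m) {N' N : Submodule R M}
    (hle : N' ≤ N) :
    Nat.card (img e N) = Nat.card (img e N') *
      Nat.card (act (N ⧸ N'.submoduleOf N) e).range := by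
  have hmem : ∀ x : img e N, (x : M) ∈ N := by
    rintro ⟨_, y, hy, rfl⟩; exact N.smul_mem e hy
  let ψ : img e N →+ N ⧸ N'.submoduleOf N :=
    { toFun := fun x => Submodule.Quotient.mk ⟨x, hmem x⟩
      map_zero' := rfl
      map_add' := fun _ _ => rfl }
  have hfix : ∀ x : img e N, e • (x : M) = x := by
    rintro ⟨_, y, hy, rfl⟩; exact he y
  have hrange : ψ.range = (act (N ⧸ N'.submoduleOf N) e).range := by
    ext q
    constructor
    · rintro ⟨x, rfl⟩
      exact ⟨Submodule.Quotient.mk ⟨x, hmem x⟩, congrArg Submodule.Quotient.mk (Subtype.ext (hfix x))⟩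
    · rintro ⟨q, rfl⟩
      obtain ⟨y, rfl⟩ := Submodule.Quotient.mk_surjective _ q
      exact ⟨⟨e • (y : M), y, y.2, rfl⟩, rfl⟩
  have hker : Nat.card ψ.ker = Nat.card (img e N') := by
    refine Nat.card_congr
      { toFun := fun x => ⟨((x : img e N) : M), ?_⟩
        invFun := fun x => ⟨⟨(x : M), ?_⟩, ?_⟩
        left_inv := fun _ => rfl
        right_inv := fun _ => rfl }
    · refine ⟨((x : img e N) : M), ?_, hfix x⟩
      have h0 : ψ (x : img e N) = 0 := x.2
      have h0' : (Submodule.Quotient.mk (⟨((x : img e N) : M), hmem _⟩ : N) : N ⧸ N'.submoduleOf N) = 0 := h0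
      exact (Submodule.Quotient.mk_eq_zero (N'.submoduleOf N)).mp h0'
    · obtain ⟨y, hy, hxy⟩ := x.2
      exact ⟨y, hle hy, hxy⟩
    · obtain ⟨y, hy, hxy⟩ := x.2
      refine (Submodule.Quotient.mk_eq_zero _).mpr ?_
      show (x : M) ∈ N'
      rw [← hxy]; exact N'.smul_mem e hy
  rw [card_eq_ker_mul_range ψ, hker, hrange]

/-- A scalar acting as a projection on all composition factors has image of cardinality a power. -/
theorem card_img_pow {e : R} (he : ∀ m : M, e • e • m = e • m) (c : ℕ)
    (hfac : ∀ N' N : Submodule R M, N' ⋖ N →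
      (∀ q : N ⧸ N'.submoduleOf N, e • q = q) ∧ Nat.card (N ⧸ N'.submoduleOf N) = c ∨
        ∀ q : N ⧸ N'.submoduleOf N, e • q = 0) :
    ∀ (n : ℕ) (N : Submodule R M), Nat.card N = n → ∃ k, Nat.card (img e N) = c ^ k := by
  intro n
  induction n using Nat.strong_induction_on with
  | _ n ih =>
  intro N hn
  rcases eq_or_ne N ⊥ with rfl | hN
  · refine ⟨0, ?_⟩
    rw [pow_zero, AddSubgroup.card_eq_one, eq_bot_iff]
    rintro _ ⟨y, hy, rfl⟩
    rw [show y = 0 from (Submodule.mem_bot R).mp hy]
    simp
  haveI : Finite (Submodule R M) := Finite.of_injective _ SetLike.coe_injective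
  obtain ⟨N', -, hcov⟩ := exists_le_covBy_of_lt (bot_lt_iff_ne_bot.mpr hN)
  have hlt : Nat.card N' < n := by
    rw [← hn]
    exact (Set.toFinite (N : Set M)).card_lt_card (SetLike.coe_ssubset_coe.mpr hcov.lt) |>.trans_eq rfl
  obtain ⟨k, hk⟩ := ih _ hlt N' rfl
  rw [card_img_step he hcov.le, hk]
  rcases hfac N' N hcov with ⟨h1, h2⟩ | h0
  · refine ⟨k + 1, ?_⟩
    have htop : (act (N ⧸ N'.submoduleOf N) e).range = ⊤ :=
      eq_top_iff.mpr fun q _ => ⟨q, h1 q⟩
    rw [htop, AddSubgroup.card_top, h2, pow_succ]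
  · refine ⟨k, ?_⟩
    have hbot : (act (N ⧸ N'.submoduleOf N) e).range = ⊥ := by
      rw [eq_bot_iff]
      rintro _ ⟨q, rfl⟩
      exact (h0 q : act _ e q = 0)
    rw [hbot, AddSubgroup.card_bot, mul_one]

/-- A scalar which is the projection to the type of a given simple module on every composition
factor, and is idempotent. -/
theorem exists_projection {T : Type*} [AddCommGroup T] [Module R T] [IsSimpleModule R T] :
    ∃ e : R, (∀ m : M, e • e • m = e • m) ∧ ∀ N' N : Submodule R M, N' ⋖ N →
      ((∀ q : N ⧸ N'.submoduleOf N, e • q = q) ∧ Nat.card (N ⧸ N'.submoduleOf N) = Nat.card T ∨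
        ∀ q : N ⧸ N'.submoduleOf N, e • q = 0) ∧
      (Nonempty ((N ⧸ N'.submoduleOf N) ≃ₗ[R] T) → ∀ q : N ⧸ N'.submoduleOf N, e • q = q) := by
  classical
  haveI : Finite (Submodule R M) := Finite.of_injective _ SetLike.coe_injective
  let ι := {p : Submodule R M × Submodule R M // p.1 ⋖ p.2}
  haveI : Fintype ι := Fintype.ofFinite ι
  let Q : ι → Type _ := fun i => (i.1.2 : Submodule R M) ⧸ i.1.1.submoduleOf i.1.2
  haveI hsimp : ∀ i, IsSimpleModule R (Q i) := fun i =>
    (covBy_iff_quot_is_simple i.2.le).mp i.2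
  let χ : ι → Prop := fun i => Nonempty (Q i ≃ₗ[R] T)
  let p : Module.End (Module.End R (Π i, Q i)) (Π i, Q i) :=
    { toFun := fun m i => if χ i then m i else 0
      map_add' := fun a b => funext fun i => by by_cases h : χ i <;> simp [h]
      map_smul' := fun f m => by
        funext i
        show (if χ i then f m i else 0) = f (fun j => if χ j then m j else 0) i
        have hdec : ∀ m : Π i, Q i, f m i = ∑ j, f (Pi.single j (m j)) i := fun m => by
          conv_lhs => rw [← Finset.univ_sum_single m, map_sum, Finset.sum_apply]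
        rw [hdec m, hdec fun j => if χ j then m j else 0]
        split_ifs with hi
        · refine Finset.sum_congr rfl fun j _ => ?_
          by_cases hj : χ j
          · rw [if_pos hj]
          · rw [if_neg hj, Pi.single_zero, map_zero, Pi.zero_apply]
            let g : Q j →ₗ[R] Q i := (LinearMap.proj i).comp (f.comp (LinearMap.single R Q j))
            rcases g.bijective_or_eq_zero with hb | h0
            · exact absurd (let ⟨φ⟩ := hi; ⟨(LinearEquiv.ofBijective g hb).trans φ⟩) hj
            · exact DFunLike.congr_fun h0 (m j)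
        · refine (Finset.sum_eq_zero fun j _ => ?_).symm
          by_cases hj : χ j
          · rw [if_pos hj]
            let g : Q j →ₗ[R] Q i := (LinearMap.proj i).comp (f.comp (LinearMap.single R Q j))
            rcases g.bijective_or_eq_zero with hb | h0
            · exact absurd (let ⟨φ⟩ := hj; ⟨(LinearEquiv.ofBijective g hb).symm.trans φ⟩) hi
            · exact DFunLike.congr_fun h0 (m j)
          · rw [if_neg hj, Pi.single_zero, map_zero, Pi.zero_apply] }
  haveI : ∀ i, Finite (Q i) := fun i => Finite.of_surjective _ (Submodule.Quotient.mk_surjective _)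
  haveI : Fintype (Π i, Q i) := Fintype.ofFinite _
  obtain ⟨r, hr⟩ := jacobson_density p Finset.univ
  have hact : ∀ i (q : Q i), r • q = if χ i then q else 0 := fun i q => by
    have := congrFun (hr (Pi.single i q) (Finset.mem_univ _)) i
    rw [Pi.smul_apply, Pi.single_eq_same] at this
    rw [← this]
    show (if χ i then (Pi.single i q : Π j, Q j) i else 0) = _
    rw [Pi.single_eq_same]
  haveI : Finite (AddMonoid.End M) := Finite.of_injective _ DFunLike.coe_injective
  obtain ⟨n, hn, hidem⟩ := exists_pow_idem (Module.toAddMonoidEnd R M r)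
  rw [← map_pow, ← map_mul] at hidem
  refine ⟨r ^ n, fun m => ?_, fun N' N hcov => ?_⟩
  · rw [← mul_smul]; exact DFunLike.congr_fun hidem m
  · have hpow : ∀ q : Q ⟨(N', N), hcov⟩, r ^ n • q = if χ ⟨(N', N), hcov⟩ then q else 0 := by
      intro q
      obtain ⟨k, rfl⟩ : ∃ k, n = k + 1 := ⟨n - 1, by omega⟩
      clear hn hidem
      induction k with
      | zero => rw [pow_one]; exact hact _ q
      | succ k ih => rw [pow_succ', mul_smul, ih, hact]; split_ifs <;> simp
    by_cases h : χ ⟨(N', N), hcov⟩
    · refine ⟨Or.inl ⟨fun q => by rw [hpow q, if_pos h], ?_⟩, fun _ q => by rw [hpow q, if_pos h]⟩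
      obtain ⟨φ⟩ := h
      exact Nat.card_congr φ.toEquiv
    · exact ⟨Or.inr fun q => by rw [hpow q, if_neg h], fun h' => absurd h' h⟩

end

theorem card_split {W : Type*} [AddCommGroup W] [Module R W] {e : R}
    (hW : ∀ w : W, e • e • w = e • w) :
    Nat.card W = Nat.card (act W (1 - e)).range * Nat.card (act W e).range := by
  have h : (act W e).ker = (act W (1 - e)).range := by
    ext w
    constructor
    · intro hw
      refine ⟨w, ?_⟩
      show (1 - e) • w = w
      rw [sub_smul, one_smul, show e • w = 0 from hw, sub_zero]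
    · rintro ⟨w, rfl⟩
      show e • ((1 - e) • w) = 0
      rw [sub_smul, one_smul, smul_sub, hW, sub_self]
  rw [card_eq_ker_mul_range (act W e), h]

/-- The gap. -/
theorem rank_gap {Y Z : Type*} [AddCommGroup Y] [AddCommGroup Z] [Module R Y] [Module R Z]
    [Finite Y] [Finite Z]
    (hrank : ∀ r : R, (∃ z : Z, r • z ≠ 0) →
      Nat.card (act Z r).range < Nat.card (act Y r).range)
    {N' N : Submodule R Y} (hcov : N' ⋖ N) :
    Nat.card Z * Nat.card N ≤ Nat.card Y * Nat.card N' := by
  have hle : ∀ r : R, Nat.card (act Z r).range ≤ Nat.card (act Y r).range := by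
    intro r
    by_cases h : ∃ z : Z, r • z ≠ 0
    · exact (hrank r h).le
    · push Not at h
      have : (act Z r).range = ⊥ := by
        rw [eq_bot_iff]; rintro _ ⟨z, rfl⟩; exact (h z : act Z r z = 0)
      rw [this, AddSubgroup.card_bot]
      exact Nat.card_pos
  haveI : IsSimpleModule R (N ⧸ N'.submoduleOf N) := (covBy_iff_quot_is_simple hcov.le).mp hcov
  set T := N ⧸ N'.submoduleOf N with hT
  obtain ⟨e, he, hfac⟩ := exists_projection (R := R) (M := Y × Z) (T := T)
  have heY : ∀ y : Y, e • e • y = e • y := fun y => congrArg Prod.fst (he (y, 0))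
  have heZ : ∀ z : Z, e • e • z = e • z := fun z => congrArg Prod.snd (he (0, z))
  have hpow := card_img_pow he (Nat.card T) (fun A B h => (hfac A B h).1)
  -- the two injections
  let iY : Y →ₗ[R] Y × Z := LinearMap.inl R Y Z
  let iZ : Z →ₗ[R] Y × Z := LinearMap.inr R Y Z
  have hiY : ∀ S : Submodule R Y, Nat.card (img e (S.map iY)) = Nat.card (img e S) := fun S => by
    have : img e (S.map iY) = (img e S).map iY.toAddMonoidHom := by
      ext x
      constructor
      · rintro ⟨_, ⟨s, hs, rfl⟩, rfl⟩; exact ⟨e • s, ⟨s, hs, rfl⟩, map_smul iY e s⟩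
      · rintro ⟨_, ⟨s, hs, rfl⟩, rfl⟩; exact ⟨iY s, ⟨s, hs, rfl⟩, (map_smul iY e s).symm⟩
    rw [this]
    exact Nat.card_image_of_injective (LinearMap.inl_injective (R := R)) _
  have hiZ : Nat.card (img e ((⊤ : Submodule R Z).map iZ)) = Nat.card (act Z e).range := by
    have : img e ((⊤ : Submodule R Z).map iZ) = (act Z e).range.map iZ.toAddMonoidHom := by
      ext x
      constructor
      · rintro ⟨_, ⟨s, hs, rfl⟩, rfl⟩; exact ⟨e • s, ⟨s, rfl⟩, map_smul iZ e s⟩
      · rintro ⟨_, ⟨s, rfl⟩, rfl⟩; exact ⟨iZ s, ⟨s, trivial, rfl⟩, (map_smul iZ e s).symm⟩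
    rw [this]
    exact Nat.card_image_of_injective (LinearMap.inr_injective (R := R)) _
  have htopY : img e (⊤ : Submodule R Y) = (act Y e).range := by
    ext x
    exact ⟨fun ⟨y, _, h⟩ => ⟨y, h⟩, fun ⟨y, h⟩ => ⟨y, trivial, h⟩⟩
  -- `e` is the identity on `T`
  have hTid : ∀ q : T, e • q = q := by
    have hcov' : N'.map iY ⋖ N.map iY := by
      refine ⟨Submodule.map_strictMono_of_injective LinearMap.inl_injective hcov.lt, fun C h1 h2 => ?_⟩
      have hC : (C.comap iY).map iY = C :=
        Submodule.map_comap_eq_self (h2.le.trans (LinearMap.map_le_range ..))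
      rw [← hC] at h1 h2
      exact hcov.2 ((Submodule.map_lt_map_iff_of_injective LinearMap.inl_injective).mp h1)
        ((Submodule.map_lt_map_iff_of_injective LinearMap.inl_injective).mp h2)
    let φ : T →ₗ[R] (N.map iY) ⧸ (N'.map iY).submoduleOf (N.map iY) :=
      Submodule.mapQ _ _ (N.equivMapOfInjective iY LinearMap.inl_injective).toLinearMap
        (fun n hn => ⟨(n : Y), hn, rfl⟩)
    haveI : IsSimpleModule R ((N.map iY) ⧸ (N'.map iY).submoduleOf (N.map iY)) :=
      (covBy_iff_quot_is_simple hcov'.le).mp hcov'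
    have hφ : Function.Bijective φ := by
      refine φ.bijective_or_eq_zero.resolve_right fun h0 => ?_
      obtain ⟨x, hx, hx'⟩ := SetLike.exists_of_lt hcov.lt
      have h1 : φ (Submodule.Quotient.mk ⟨x, hx⟩) = 0 := by rw [h0]; rfl
      obtain ⟨y, hy, hyx⟩ := (Submodule.Quotient.mk_eq_zero _).mp h1
      obtain rfl : y = x := LinearMap.inl_injective hyx
      exact hx' hy
    intro q
    refine hφ.1 ?_
    rw [map_smul]
    exact (hfac _ _ hcov').2 ⟨(LinearEquiv.ofBijective φ hφ).symm⟩ (φ q)
  -- the part where `e` is one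
  obtain ⟨i, hi⟩ := hpow _ ((⊤ : Submodule R Y).map iY) rfl
  obtain ⟨j, hj⟩ := hpow _ ((⊤ : Submodule R Z).map iZ) rfl
  rw [hiY, htopY] at hi
  rw [hiZ] at hj
  have hT2 : 1 < Nat.card T := by
    haveI := IsSimpleModule.nontrivial R T
    haveI : Finite T := Finite.of_surjective _ (Submodule.Quotient.mk_surjective _)
    exact Finite.one_lt_card
  have hTi : Nat.card T ≤ Nat.card (act Y e).range := by
    have h1 := card_img_step heY hcov.le
    rw [show (act T e).range = ⊤ from eq_top_iff.mpr fun q _ => ⟨q, hTid q⟩, AddSubgroup.card_top] at h1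
    have h2 : Nat.card (img e N) ≤ Nat.card (act Y e).range := by
      rw [← htopY]
      exact AddSubgroup.card_le_of_le (AddSubgroup.map_mono fun x _ => trivial)
    rw [h1] at h2
    exact le_trans (Nat.le_mul_of_pos_left _ Nat.card_pos) h2
  have hA : Nat.card (act Z e).range * Nat.card T ≤ Nat.card (act Y e).range := by
    by_cases h : ∃ z : Z, e • z ≠ 0
    · have hlt := hrank e h
      rw [hi, hj] at hlt ⊢
      rw [← pow_succ]
      exact Nat.pow_le_pow_right (by omega) ((Nat.pow_lt_pow_iff_right hT2).mp hlt)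
    · push Not at h
      have : (act Z e).range = ⊥ := by
        rw [eq_bot_iff]; rintro _ ⟨z, rfl⟩; exact (h z : act Z e z = 0)
      rw [this, AddSubgroup.card_bot, one_mul]
      exact hTi
  -- the kernels
  have hTN : Nat.card N = Nat.card T * Nat.card N' := by
    rw [Submodule.card_eq_card_quotient_mul_card (N'.submoduleOf N), mul_comm]
    congr 1
    exact Nat.card_congr (Submodule.submoduleOfEquivOfLe hcov.le).toEquiv
  calc Nat.card Z * Nat.card N
      = Nat.card (act Z (1 - e)).range * (Nat.card (act Z e).range * Nat.card T) * Nat.card N' := by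
        rw [card_split heZ, hTN]; ring
    _ ≤ Nat.card (act Y (1 - e)).range * Nat.card (act Y e).range * Nat.card N' :=
        Nat.mul_le_mul_right _ (Nat.mul_le_mul (hle _) hA)
    _ = Nat.card Y * Nat.card N' := by rw [← card_split heY]

end Cfsg.Agent.Invol.NoOff
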