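import Cfsg.Agent.Lib.Invol.NoOff.Factor

/-!
Images of proper subgroups on invariant subspaces.
-/

set_option autoImplicit false
set_option linter.unusedSectionVars false
set_option linter.style.haveILetI false

namespace Cfsg.Agent.Invol.NoOff

open Subgroup Cfsg.Agent.Block.SFour
open scoped Pointwise

universe u v

variable {G : Type u} [Group G] [Finite G] {V : Type v} [AddCommGroup V] [Module (ZMod 2) V]
  [Finite V] (ρ : Representation (ZMod 2) G V)

/-- The image of `H` on `U` has no normal 2-subgroup. -/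
def CoreFree (H : Subgroup G) (U : Submodule (ZMod 2) V) : Prop :=
  ∀ O ≤ H, H ≤ normalizer (O : Set G) → fixg ρ U ⊓ H ≤ O →
    (∃ k, (fixg ρ U).relIndex O = 2 ^ k) → O ≤ fixg ρ U

variable {ρ}

/-- The weight of a minimal offender on a subspace. -/
theorem MinOff.weight_sub {A : Subgroup G} (hA : MinOff ρ A) (U : Submodule (ZMod 2) V) :
    Nat.card U ≤ (fixg ρ U).relIndex A * Nat.card ↥(U ⊓ fixd ρ A) := by
  set A0 := fixg ρ U ⊓ A
  have h1 := hA.weight (inf_le_right : A0 ≤ A)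
  have h2 : U ⊔ fixd ρ A ≤ fixd ρ A0 :=
    sup_le (fun w hw x hx => hx.1 w hw) (fixd_anti inf_le_right)
  have h3 := card_sup_mul_inf U (fixd ρ A)
  have h4 : Nat.card A = (fixg ρ U).relIndex A * Nat.card A0 := by
    rw [← Subgroup.inf_relIndex_right, ← Subgroup.relIndex_bot_left A0,
      ← Subgroup.relIndex_bot_left A, mul_comm]
    exact (Subgroup.relIndex_mul_relIndex _ _ _ bot_le inf_le_right).symm
  refine Nat.le_of_mul_le_mul_right ?_
    (Nat.mul_pos (Nat.card_pos (α := A0)) (Nat.card_pos (α := ↥(fixd ρ A))))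
  calc Nat.card U * (Nat.card A0 * Nat.card (fixd ρ A))
      = Nat.card A0 * Nat.card ↥(U ⊔ fixd ρ A) * Nat.card ↥(U ⊓ fixd ρ A) := by
        rw [mul_assoc, h3]; ring
    _ ≤ Nat.card A0 * Nat.card (fixd ρ A0) * Nat.card ↥(U ⊓ fixd ρ A) :=
        Nat.mul_le_mul_right _ (Nat.mul_le_mul_left _ (card_mono h2))
    _ ≤ Nat.card A * Nat.card (fixd ρ A) * Nat.card ↥(U ⊓ fixd ρ A) := Nat.mul_le_mul_right _ h1
    _ = _ := by rw [h4]; ring

/-- A normal subgroup with image a 2-group is covered by the kernel and a Sylow subgroup. -/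
theorem core_decomp {H O D : Subgroup G} {U : Submodule (ZMod 2) V} (hOH : O ≤ H)
    (hOn : H ≤ normalizer (O : Set G)) (hKO : fixg ρ U ⊓ H ≤ O)
    (h2 : ∃ k, (fixg ρ U).relIndex O = 2 ^ k) (hD : Grp.IsSylowIn 2 D H) :
    O ≤ fixg ρ U ⊓ H ⊔ (D ⊓ O) := by
  obtain ⟨k, hk⟩ := h2
  set X := fixg ρ U ⊓ H ⊔ (D ⊓ O)
  have hXO : X ≤ O := sup_le hKO inf_le_right
  rw [← Subgroup.relIndex_eq_one]
  have h1 : X.relIndex O ∣ 2 ^ k := by
    rw [← hk]
    refine dvd_trans (Subgroup.relIndex_dvd_of_le_left O (le_sup_left : fixg ρ U ⊓ H ≤ X)) ?_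
    rw [← Subgroup.inf_relIndex_right (fixg ρ U ⊓ H) O, inf_assoc, inf_eq_right.mpr hOH,
      Subgroup.inf_relIndex_right]
  have h3 : ¬ 2 ∣ X.relIndex O := fun h =>
    (sylowIn_inf_normal hOH hOn hD).2.2
      (h.trans (Subgroup.relIndex_dvd_of_le_left O (le_sup_right : D ⊓ O ≤ X)))
  exact Nat.eq_one_of_dvd_coprimes
    ((Nat.prime_two.coprime_iff_not_dvd.mpr h3).pow_left k) h1 dvd_rfl

/-- The span of the orbit of the fixed space of a Sylow subgroup. -/
theorem coreFree_orbit {H D : Subgroup G} (hD : Grp.IsSylowIn 2 D H) :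
    CoreFree ρ H (⨆ h : H, (fixd ρ D).map (ρ (h : G))) := by
  intro O hOH hOn hKO h2 x hx
  set U := ⨆ h : H, (fixd ρ D).map (ρ (h : G))
  suffices h : U ≤ LinearMap.ker (ρ x + LinearMap.id) by
    intro u hu
    have h1 : ρ x u + u = 0 := h hu
    rw [← neg_eq_self u]
    exact eq_neg_of_add_eq_zero_left (by rw [neg_eq_self]; exact h1)
  refine iSup_le fun h => ?_
  rintro _ ⟨v, hv, rfl⟩
  -- conjugate back
  set y := (h : G)⁻¹ * x * (h : G) with hy
  have hyO : y ∈ O := Grp.mem_conj_normalizer' (hOn h.2) hx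
  have key : O ≤ fixg ρ (fixd ρ D) := by
    refine (core_decomp hOH hOn hKO h2 hD).trans (sup_le ?_ ?_)
    · refine inf_le_left.trans (fixg_anti ?_)
      intro w hw
      exact Submodule.mem_iSup_of_mem (⟨1, H.one_mem⟩ : H) ⟨w, hw, by rw [map_one]; rfl⟩
    · exact fun d hd w hw => hw d hd.1
  show ρ x (ρ (h : G) v) + ρ (h : G) v = 0
  have h1 : ρ x (ρ (h : G) v) = ρ (h : G) (ρ y v) := by
    rw [← rho_mul, ← rho_mul, hy]; congr 2; group
  rw [h1, key hyO v hv, add_self_zero]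

/-- An irreducible subspace. -/
theorem coreFree_irred {H : Subgroup G} {U : Submodule (ZMod 2) V} (hU : H ≤ stab ρ U)
    (hne : U ≠ ⊥) (hmin : ∀ X, X ≤ U → H ≤ stab ρ X → X = ⊥ ∨ X = U) : CoreFree ρ H U := by
  intro O hOH hOn hKO h2
  haveI : Fact (Nat.Prime 2) := ⟨Nat.prime_two⟩
  obtain ⟨D, hD⟩ := Grp.exists_isSylowIn 2 H
  have hdec := core_decomp hOH hOn hKO h2 hD
  have hbot : H ≤ stab ρ (⊥ : Submodule (ZMod 2) V) := fun y _ => mem_stab_of_forall fun u hu => by
    rw [Submodule.mem_bot] at hu; rw [hu, map_zero]; exact Submodule.zero_mem _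
  obtain ⟨v, hv, hv0, hfix⟩ := exists_fixed_mod (ρ := ρ) (hD.2.1.to_le (inf_le_left : D ⊓ O ≤ D))
    (bot_lt_iff_ne_bot.mpr hne) (inf_le_right.trans (hOH.trans hbot))
    (inf_le_right.trans (hOH.trans hU))
  have hvO : v ∈ fixd ρ O := by
    have hle : O ≤ fixg ρ (U ⊓ fixd ρ (D ⊓ O)) := hdec.trans (sup_le
      (inf_le_left.trans (fixg_anti inf_le_left)) (fun d hd w hw => hw.2 d hd))
    refine fun o ho => hle ho v ⟨hv, fun d hd => ?_⟩
    exact sub_eq_zero.mp ((Submodule.mem_bot _).mp (hfix d hd))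
  have hXH : H ≤ stab ρ (U ⊓ fixd ρ O) := fun y hy => mem_stab_of_forall fun u hu => by
    refine ⟨apply_mem_of_stab (hU hy) hu.1, fun o ho => ?_⟩
    have h1 := congrArg (ρ y) (hu.2 _ (Grp.mem_conj_normalizer' (hOn hy) ho))
    rwa [rho_mul, rho_mul, rho_apply_inv] at h1
  rcases hmin _ inf_le_left hXH with h | h
  · have hmem : v ∈ U ⊓ fixd ρ O := ⟨hv, hvO⟩
    rw [h] at hmem
    exact absurd ((Submodule.mem_bot _).mp hmem)
      fun h0 => hv0 ((Submodule.mem_bot _).mpr h0)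
  · intro o ho u hu
    rw [← h] at hu
    exact hu.2 o ho

set_option maxHeartbeats 800000 in
/-- No proper subgroup offends on an invariant subspace where its image is core free. -/
theorem image_bound {n : ℕ} (IH : NoOffBelow.{u, v} n) (hnt : NoThree G) {H : Subgroup G}
    (hH : Nat.card H < n) {U : Submodule (ZMod 2) V} (hU : H ≤ stab ρ U) (hcore : CoreFree ρ H U)
    {E : Subgroup G} (hEH : E ≤ H) (hsq : ∀ x ∈ E, x ^ 2 ∈ fixg ρ U) (hne : ¬ E ≤ fixg ρ U) :
    (fixg ρ U).relIndex E * Nat.card ↥(U ⊓ fixd ρ E) < Nat.card U := by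
  haveI : Fact (Nat.Prime 2) := ⟨Nat.prime_two⟩
  obtain ⟨σ, hσ⟩ : ∃ σ : H →* Module.End (ZMod 2) U,
      ∀ (a : H) (x : U), ((σ a x : U) : V) = ρ (a : G) x := by
    refine ⟨
    { toFun := fun a => (ρ (a : G)).restrict fun u hu => apply_mem_of_stab (hU a.2) hu
      map_one' := LinearMap.ext fun x => Subtype.ext (by
        show ρ 1 (x : V) = x
        rw [map_one]; rfl)
      map_mul' := fun a b => LinearMap.ext fun x => Subtype.ext (by
        show ρ ((a : G) * b) (x : V) = ρ (a : G) (ρ (b : G) x)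
        exact rho_mul ρ _ _ _) }, fun _ _ => rfl⟩
  have hker : MonoidHom.ker σ = (fixg ρ U).subgroupOf H := by
    ext a
    rw [MonoidHom.mem_ker, Subgroup.mem_subgroupOf]
    constructor
    · intro h u hu
      have := congrArg Subtype.val (LinearMap.congr_fun h ⟨u, hu⟩)
      rwa [hσ, Module.End.one_apply] at this
    · intro h
      exact LinearMap.ext fun x => Subtype.ext (by rw [hσ, Module.End.one_apply]; exact h x x.2)
  obtain ⟨σ', hσ', hσinj⟩ := exists_kerLift σ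
  set π := QuotientGroup.mk' (MonoidHom.ker σ) with hπ
  have hrel : ∀ L : Subgroup H, (fixg ρ U).relIndex (L.map H.subtype) = Nat.card (L.map π) := by
    intro L
    rw [← Subgroup.relIndex_ker, hπ, QuotientGroup.ker_mk', hker]
    exact (Subgroup.relIndex_comap (fixg ρ U) H.subtype L).symm
  have hpc : Cfsg.pCore 2 (H ⧸ MonoidHom.ker σ) = ⊥ := by
    set C := Cfsg.pCore 2 (H ⧸ MonoidHom.ker σ)
    haveI : C.Normal := Grp.pCore_isNormal
    set O := (C.comap π).map H.subtype with hO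
    have hOn : H ≤ normalizer (O : Set G) := by
      refine (Subgroup.normal_subgroupOf_iff_le_normalizer (Subgroup.map_subtype_le _)).mp ?_
      rw [Subgroup.subgroupOf, Subgroup.comap_map_eq_self_of_injective H.subtype_injective]
      exact (inferInstance : C.Normal).comap π
    have hKO : fixg ρ U ⊓ H ≤ O := fun x hx => by
      refine ⟨⟨x, hx.2⟩, ?_, rfl⟩
      show π ⟨x, hx.2⟩ ∈ C
      have : (⟨x, hx.2⟩ : H) ∈ MonoidHom.ker σ := hker ▸ (Subgroup.mem_subgroupOf.mpr hx.1)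
      rw [hπ, QuotientGroup.mk'_apply, (QuotientGroup.eq_one_iff _).mpr this]
      exact C.one_mem
    have hk : ∃ k, (fixg ρ U).relIndex O = 2 ^ k := by
      rw [hO, hrel, Subgroup.map_comap_eq_self_of_surjective (QuotientGroup.mk'_surjective _)]
      exact IsPGroup.iff_card.mp Grp.pCore_isPGroup
    have hle := hcore O (Subgroup.map_subtype_le _) hOn hKO hk
    rw [Subgroup.eq_bot_iff_forall]
    intro c hc
    obtain ⟨a, rfl⟩ := QuotientGroup.mk'_surjective _ c
    refine (QuotientGroup.eq_one_iff a).mpr ?_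
    rw [hker]
    exact Subgroup.mem_subgroupOf.mpr (hle ⟨a, hc, rfl⟩)
  set E2 := (E.subgroupOf H).map π with hE2
  have hcard : Nat.card E2 = (fixg ρ U).relIndex E := by
    rw [hE2, ← hrel, Subgroup.map_subgroupOf_eq_of_le hEH]
  have hE2sq : ∀ x ∈ E2, x ^ 2 = 1 := by
    rintro _ ⟨a, ha, rfl⟩
    rw [← map_pow, hπ, QuotientGroup.mk'_apply, QuotientGroup.eq_one_iff, hker,
      Subgroup.mem_subgroupOf, SubmonoidClass.coe_pow]
    exact hsq _ ha
  have hE2el : Cfsg.IsElementaryAbelian 2 E2 := by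
    refine ⟨⟨⟨fun x y => Subtype.ext ?_⟩⟩, hE2sq⟩
    have hinv : ∀ z ∈ E2, z⁻¹ = z := fun z hz =>
      inv_eq_of_mul_eq_one_right (by rw [← pow_two]; exact hE2sq z hz)
    show (x : H ⧸ MonoidHom.ker σ) * y = y * x
    rw [← hinv _ (E2.mul_mem x.2 y.2), mul_inv_rev, hinv _ x.2, hinv _ y.2]
  have hfix : Nat.card (fixd σ' E2) = Nat.card ↥(U ⊓ fixd ρ E) := by
    refine Nat.card_congr
      { toFun := fun v => ⟨((v : U) : V), (v : U).2, fun e he => ?_⟩
        invFun := fun v => ⟨⟨(v : V), v.2.1⟩, ?_⟩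
        left_inv := fun _ => rfl
        right_inv := fun _ => rfl }
    · have h := congrArg Subtype.val (v.2 _ ⟨⟨e, hEH he⟩, he, rfl⟩)
      rwa [show π ⟨e, hEH he⟩ = ((⟨e, hEH he⟩ : H) : H ⧸ MonoidHom.ker σ) from rfl, hσ', hσ] at h
    · rintro _ ⟨a, ha, rfl⟩
      refine Subtype.ext ?_
      rw [show π a = ((a : H) : H ⧸ MonoidHom.ker σ) from rfl, hσ', hσ]
      exact v.2.2 _ ha
  by_contra hcon
  refine IH (H ⧸ MonoidHom.ker σ) (lt_of_le_of_lt (Nat.card_le_card_of_surjective _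
    (QuotientGroup.mk'_surjective _)) hH) ((hnt.subgroup H).quotient _) U σ' hσinj hpc E2
    ⟨hE2el, ?_, ?_⟩
  · intro e
    rw [e, Subgroup.card_bot] at hcard
    exact hne (Subgroup.relIndex_eq_one.mp hcard.symm)
  · rw [hcard, hfix]; exact not_lt.mp hcon

/-- A minimal offender in a proper subgroup fixes every core free invariant subspace. -/
theorem MinOff.fixes {n : ℕ} (IH : NoOffBelow.{u, v} n) (hnt : NoThree G) {H : Subgroup G}
    (hH : Nat.card H < n) {U : Submodule (ZMod 2) V} (hU : H ≤ stab ρ U) (hcore : CoreFree ρ H U)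
    {A : Subgroup G} (hA : MinOff ρ A) (hAH : A ≤ H) : A ≤ fixg ρ U := by
  by_contra h
  exact (image_bound IH hnt hH hU hcore hAH
    (fun x hx => by rw [hA.1.1.2 x hx]; exact one_mem _) h).not_ge (hA.weight_sub U)

end Cfsg.Agent.Invol.NoOff
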