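import Cfsg.Agent.Lib.Invol.NoOff.Gap
import Cfsg.Agent.Lib.Invol.NoOff.Factor

/-!
A subgroup moving a module into fixed points, none of whose subgroups offends: the gap.
-/

set_option autoImplicit false
set_option linter.unusedSectionVars false
set_option linter.style.haveILetI false

namespace Cfsg.Agent.Invol.NoOff

open Subgroup
open scoped Pointwise

universe u v

theorem card_map_mul {M : Type*} {M' : Type*} [AddCommGroup M] [AddCommGroup M'] [Module (ZMod 2) M]
    [Module (ZMod 2) M'] (f : M →ₗ[ZMod 2] M') (N : Submodule (ZMod 2) M)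
    (hker : LinearMap.ker f ≤ N) :
    Nat.card N = Nat.card (LinearMap.ker f) * Nat.card (N.map f) := by
  let g : N →+ M' := f.toAddMonoidHom.comp N.toAddSubgroup.subtype
  rw [card_eq_ker_mul_range g]
  congr 1
  · refine Nat.card_congr
      { toFun := fun x => ⟨((x : N) : M), x.2⟩
        invFun := fun x => ⟨⟨(x : M), hker x.2⟩, x.2⟩
        left_inv := fun _ => rfl
        right_inv := fun _ => rfl }
  · refine Nat.card_congr (Equiv.subtypeEquivProp (funext fun y => propext ?_))
    exact ⟨fun ⟨x, hx⟩ => ⟨(x : M), x.2, hx⟩, fun ⟨x, hx, hxy⟩ => ⟨⟨x, hx⟩, hxy⟩⟩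

variable {G : Type u} [Group G] [Finite G] {V : Type v} [AddCommGroup V] [Module (ZMod 2) V]
  [Finite V] {ρ : Representation (ZMod 2) G V}

set_option maxHeartbeats 1000000 in
/-- The gap for the pairing of `W / W₁` with the image of `Rc`. -/
theorem pairing_gap {P Rc : Subgroup G} {W W1 : Submodule (ZMod 2) V} (hW : P ≤ stab ρ W)
    (hW1 : P ≤ stab ρ W1) (hW1W : W1 ≤ W) (hRP : Rc ≤ P) (hRn : P ≤ normalizer (Rc : Set G))
    (hmove : ∀ r ∈ Rc, ∀ w ∈ W, ρ r w + w ∈ fixd ρ P) (hfix1 : ∀ r ∈ Rc, ∀ w ∈ W1, ρ r w = w)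
    (hstrict : ∀ E ≤ Rc, ¬ E ≤ fixg ρ W →
      (fixg ρ W).relIndex E * Nat.card ↥(W ⊓ fixd ρ E) < Nat.card W)
    {N' N : Submodule (ZMod 2) V} (hcov : Cov ρ P N' N) (h1 : W1 ≤ N') (h2 : N ≤ W) :
    (fixg ρ W).relIndex Rc * Nat.card N * Nat.card W1 ≤ Nat.card W * Nat.card N' := by
  classical
  obtain ⟨hlt, hN', hN, hmax⟩ := hcov
  set K0 := W1.submoduleOf W with hK0
  let Y := W ⧸ K0
  haveI : Finite Y := Finite.of_surjective _ (Submodule.Quotient.mk_surjective _)
  -- the action on `Y`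
  let op : P → W →ₗ[ZMod 2] W := fun a => (ρ (a : G)).restrict fun u hu => apply_mem_of_stab (hW a.2) hu
  have hop : ∀ a, K0 ≤ K0.comap (op a) := fun a u hu => apply_mem_of_stab (hW1 a.2) hu
  obtain ⟨τ, hτ⟩ : ∃ τ : Representation (ZMod 2) P Y,
      ∀ (a : P) (x : W), τ a (Submodule.Quotient.mk x) = Submodule.Quotient.mk (op a x) := by
    refine ⟨
    { toFun := fun a => Submodule.mapQ _ _ (op a) (hop a)
      map_one' := LinearMap.ext fun q => by
        induction q using Submodule.Quotient.induction_on with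
        | _ x =>
          show Submodule.Quotient.mk (op 1 x) = _
          refine congrArg _ (Subtype.ext ?_)
          show ρ 1 (x : V) = x
          rw [map_one]; rfl
      map_mul' := fun a b => LinearMap.ext fun q => by
        induction q using Submodule.Quotient.induction_on with
        | _ x =>
          show Submodule.Quotient.mk (op (a * b) x) = Submodule.Quotient.mk (op a (op b x))
          refine congrArg _ (Subtype.ext ?_)
          exact rho_mul ρ (a : G) b x }, fun _ _ => rfl⟩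
  -- the maps given by `Rc`
  have hdeq : ∀ r : Rc, ∃ φ : Y →ₗ[ZMod 2] V, ∀ x : W, φ (Submodule.Quotient.mk x) = ρ (r : G) x + x :=
    fun r => ⟨K0.liftQ ((ρ (r : G) + LinearMap.id).comp W.subtype) fun u hu => by
      show ρ (r : G) (u : V) + u = 0
      rw [hfix1 r r.2 u hu]; exact add_self_zero _, fun _ => rfl⟩
  choose Φ hΦ using hdeq
  have hΦmul : ∀ r s : Rc, Φ (r * s) = Φ r + Φ s := by
    intro r s
    refine LinearMap.ext fun q => ?_
    induction q using Submodule.Quotient.induction_on with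
    | _ x =>
      rw [LinearMap.add_apply, hΦ, hΦ, hΦ, Subgroup.coe_mul, rho_mul]
      have hs := hmove s s.2 x x.2
      have hr : ρ (r : G) (ρ (s : G) x + x) = ρ (s : G) x + x := hs r (hRP r.2)
      rw [map_add] at hr
      calc ρ (r : G) (ρ (s : G) x) + (x : V)
          = ρ (r : G) (ρ (s : G) x) + (ρ (r : G) x + ρ (r : G) x) + x := by rw [add_self_zero, add_zero]
        _ = (ρ (r : G) (ρ (s : G) x) + ρ (r : G) x) + (ρ (r : G) x + x) := by abel
        _ = (ρ (r : G) x + x) + (ρ (s : G) x + x) := by rw [hr, add_comm]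
  have hΦone : Φ 1 = 0 := by
    have := hΦmul 1 1
    rw [mul_one] at this
    exact add_left_cancel (a := Φ 1) (by rw [add_zero]; exact this.symm)
  let ΦH : Additive Rc →+ (Y →ₗ[ZMod 2] V) :=
    { toFun := fun r => Φ (Additive.toMul r)
      map_zero' := hΦone
      map_add' := fun r s => hΦmul _ _ }
  let Z : Submodule (ZMod 2) (Y →ₗ[ZMod 2] V) := AddSubgroup.toZModSubmodule 2 ΦH.range
  have hmemZ : ∀ φ, φ ∈ Z ↔ ∃ r : Rc, Φ r = φ := fun φ =>
    ⟨fun ⟨r, hr⟩ => ⟨Additive.toMul r, hr⟩, fun ⟨r, hr⟩ => ⟨Additive.ofMul r, hr⟩⟩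
  haveI : Finite (Y →ₗ[ZMod 2] V) := Finite.of_injective _ DFunLike.coe_injective
  have hker0 : ∀ r : Rc, Φ r = 0 ↔ (r : G) ∈ fixg ρ W := by
    intro r
    constructor
    · intro h w hw
      have h3 := LinearMap.congr_fun h (Submodule.Quotient.mk ⟨w, hw⟩)
      rw [hΦ, LinearMap.zero_apply] at h3
      rw [← neg_eq_self w]
      exact eq_neg_of_add_eq_zero_left (by rw [neg_eq_self]; exact h3)
    · intro h
      refine LinearMap.ext fun q => ?_
      induction q using Submodule.Quotient.induction_on with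
      | _ x => rw [hΦ, h x x.2, LinearMap.zero_apply]; exact add_self_zero _
  have hcardΦ : ∀ E : AddSubgroup (Additive Rc),
      Nat.card (E.map ΦH) = ΦH.ker.relIndex E := fun E => (AddSubgroup.relIndex_ker _ _).symm
  have hrel : ∀ E : Subgroup Rc,
      ΦH.ker.relIndex (Subgroup.toAddSubgroup E) = (fixg ρ W).relIndex (E.map Rc.subtype) := by
    intro E
    have hk : ΦH.ker = Subgroup.toAddSubgroup ((fixg ρ W).subgroupOf Rc) := by
      ext r
      exact hker0 (Additive.toMul r)
    rw [hk, Subgroup.relIndex_toAddSubgroup]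
    exact Subgroup.relIndex_comap (fixg ρ W) Rc.subtype E
  have hZcard : Nat.card Z = (fixg ρ W).relIndex Rc := by
    have h3 : Nat.card Z = Nat.card ΦH.range := rfl
    rw [h3, AddMonoidHom.range_eq_map, hcardΦ, ← map_top (Subgroup.toAddSubgroup), hrel,
      ← MonoidHom.range_eq_map, Subgroup.range_subtype]
  -- operators
  let Al := MonoidAlgebra (ZMod 2) P
  let T' : Al →ₐ[ZMod 2] Module.End (ZMod 2) Y := τ.asAlgebraHom
  have hT' : ∀ g : P, T' (MonoidAlgebra.of (ZMod 2) P g) = τ g := fun g => τ.asAlgebraHom_of g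
  have hZinv : ∀ (x : Al), ∀ φ ∈ Z, φ.comp (T' x) ∈ Z := by
    intro x
    induction x using MonoidAlgebra.induction_on with
    | of g =>
      intro φ hφ
      obtain ⟨r, rfl⟩ := (hmemZ φ).mp hφ
      rw [hmemZ]
      refine ⟨⟨(g : G)⁻¹ * r * g, Grp.mem_conj_normalizer' (hRn g.2) r.2⟩, ?_⟩
      refine LinearMap.ext fun q => ?_
      induction q using Submodule.Quotient.induction_on with
      | _ x =>
        rw [LinearMap.comp_apply, hT', hτ, hΦ, hΦ]
        show ρ ((g : G)⁻¹ * r * g) (x : V) + x = ρ (r : G) (ρ (g : G) x) + ρ (g : G) x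
        have h3 : ρ (r : G) (ρ (g : G) x) + ρ (g : G) x ∈ fixd ρ P :=
          hmove r r.2 _ (apply_mem_of_stab (hW g.2) x.2)
        rw [← h3 (g : G)⁻¹ (P.inv_mem g.2), map_add, rho_inv_apply, rho_mul, rho_mul]
    | add a b ha hb =>
      intro φ hφ
      rw [map_add, LinearMap.comp_add]
      exact Z.add_mem (ha φ hφ) (hb φ hφ)
    | smul c a ha =>
      intro φ hφ
      rw [map_smul, LinearMap.comp_smul]
      exact Z.smul_mem c (ha φ hφ)
  let pre : Al → (Z →ₗ[ZMod 2] Z) := fun x =>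
    LinearMap.restrict (LinearMap.lcomp (ZMod 2) V (T' x)) (hZinv x)
  have hpre : ∀ x (φ : Z), ((pre x φ : Z) : Y →ₗ[ZMod 2] V) = (φ : Y →ₗ[ZMod 2] V).comp (T' x) :=
    fun _ _ => rfl
  let D := Module.Dual (ZMod 2) Z
  obtain ⟨σ, hσ⟩ : ∃ σ : Al →+* Module.End (ZMod 2) D, ∀ x, σ x = (pre x).dualMap := by
    refine ⟨
    { toFun := fun x => (pre x).dualMap
      map_one' := LinearMap.ext fun ψ => LinearMap.ext fun φ => by
        show ψ (pre 1 φ) = ψ φ
        refine congrArg ψ (Subtype.ext ?_)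
        rw [hpre, map_one]; rfl
      map_mul' := fun x y => LinearMap.ext fun ψ => LinearMap.ext fun φ => by
        show ψ (pre (x * y) φ) = ψ (pre y (pre x φ))
        refine congrArg ψ (Subtype.ext ?_)
        rw [hpre, hpre, hpre, map_mul]; rfl
      map_zero' := LinearMap.ext fun ψ => LinearMap.ext fun φ => by
        show ψ (pre 0 φ) = 0
        have : pre 0 φ = 0 := Subtype.ext (by rw [hpre, map_zero, LinearMap.comp_zero]; rfl)
        rw [this, map_zero]
      map_add' := fun x y => LinearMap.ext fun ψ => LinearMap.ext fun φ => by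
        show ψ (pre (x + y) φ) = ψ (pre x φ) + ψ (pre y φ)
        rw [← map_add]
        refine congrArg ψ (Subtype.ext ?_)
        rw [Submodule.coe_add, hpre, hpre, hpre, map_add, LinearMap.comp_add] }, fun _ => rfl⟩
  haveI : Finite D := Finite.of_injective _ DFunLike.coe_injective
  letI : Module Al Y := Module.compHom Y T'.toRingHom
  letI : Module Al D := Module.compHom D σ
  -- the strict inequality of ranks
  have hrank : ∀ x : Al, (∃ z : D, x • z ≠ 0) →
      Nat.card (act D x).range < Nat.card (act Y x).range := by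
    rintro x ⟨z, hz⟩
    have eY : Nat.card (act Y x).range = Nat.card (LinearMap.range (T' x)) := rfl
    have eD : Nat.card (act D x).range = Nat.card (LinearMap.range (σ x)) := rfl
    rw [eY, eD, hσ, Module.natCard_eq_pow_finrank (K := ZMod 2) (V := LinearMap.range (pre x).dualMap),
      LinearMap.finrank_range_dualMap_eq_finrank_range,
      ← Module.natCard_eq_pow_finrank (K := ZMod 2) (V := LinearMap.range (pre x))]
    set E : Subgroup Rc := (AddSubgroup.comap ΦH
      (((LinearMap.range (pre x)).map Z.subtype).toAddSubgroup)).toSubgroup' with hE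
    have hmemE : ∀ r : Rc, r ∈ E ↔ ∃ φ : Z, (φ : Y →ₗ[ZMod 2] V).comp (T' x) = Φ r := fun r => by
      constructor
      · rintro ⟨_, ⟨φ, rfl⟩, hφ⟩; exact ⟨φ, hφ⟩
      · rintro ⟨φ, hφ⟩; exact ⟨pre x φ, ⟨φ, rfl⟩, hφ⟩
    have hEcard : Nat.card (LinearMap.range (pre x)) = (fixg ρ W).relIndex (E.map Rc.subtype) := by
      rw [← hrel, ← hcardΦ]
      refine Nat.card_congr
        { toFun := fun z => ⟨((z : Z) : Y →ₗ[ZMod 2] V), ?_⟩
          invFun := fun φ => ⟨⟨(φ : Y →ₗ[ZMod 2] V), ?_⟩, ?_⟩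
          left_inv := fun _ => rfl
          right_inv := fun _ => rfl }
      · obtain ⟨r, hr⟩ := (hmemZ _).mp (z : Z).2
        obtain ⟨φ, hφ⟩ := z.2
        exact ⟨Additive.ofMul r, (hmemE r).mpr ⟨φ, by rw [hr, ← hφ]; rfl⟩, hr⟩
      · obtain ⟨r, -, hr⟩ := φ.2
        exact (hmemZ _).mpr ⟨Additive.toMul r, hr⟩
      · obtain ⟨r, hrE, hr⟩ := φ.2
        obtain ⟨φ', hφ'⟩ := (hmemE (Additive.toMul r)).mp hrE
        exact ⟨φ', Subtype.ext (by rw [hpre, hφ']; exact hr)⟩
    have hne : ¬ E.map Rc.subtype ≤ fixg ρ W := by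
      intro hle
      apply hz
      show σ x z = 0
      rw [hσ]
      refine LinearMap.ext fun φ => ?_
      have h3 : pre x φ = 0 := by
        obtain ⟨r, hr⟩ := (hmemZ _).mp (pre x φ).2
        refine Subtype.ext ?_
        rw [← hr]
        exact (hker0 r).mpr (hle ⟨r, (hmemE r).mpr ⟨φ, by rw [hr]; rfl⟩, rfl⟩)
      show z (pre x φ) = 0
      rw [h3, map_zero]
    have hk : LinearMap.ker (K0.mkQ) ≤ (LinearMap.ker (T' x)).comap K0.mkQ := fun w hw => by
      rw [Submodule.mem_comap, show K0.mkQ w = 0 from hw]; exact Submodule.zero_mem _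
    set K1 : Submodule (ZMod 2) V := ((LinearMap.ker (T' x)).comap K0.mkQ).map W.subtype
    have hK1 : K1 ≤ W ⊓ fixd ρ (E.map Rc.subtype) := by
      rintro _ ⟨w, hw, rfl⟩
      refine ⟨w.2, ?_⟩
      rintro _ ⟨r, hr, rfl⟩
      obtain ⟨φ, hφ⟩ := (hmemE r).mp hr
      have h3 := LinearMap.congr_fun hφ (Submodule.Quotient.mk w)
      have hw0 : T' x (Submodule.Quotient.mk w) = 0 := hw
      rw [LinearMap.comp_apply, hw0, map_zero, hΦ] at h3
      show ρ (r : G) (w : V) = w
      rw [← neg_eq_self (w : V)]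
      exact eq_neg_of_add_eq_zero_left (by rw [neg_eq_self]; exact h3.symm)
    have hK1card : Nat.card K1 = Nat.card W1 * Nat.card (LinearMap.ker (T' x)) := by
      rw [← Nat.card_congr (Submodule.equivMapOfInjective W.subtype W.injective_subtype _).toEquiv,
        card_map_mul K0.mkQ _ hk, Submodule.map_comap_eq_of_surjective K0.mkQ_surjective,
        Submodule.ker_mkQ]
      congr 1
      exact Nat.card_congr (Submodule.submoduleOfEquivOfLe hW1W).toEquiv
    have hWcard : Nat.card W = Nat.card W1 * (Nat.card (LinearMap.ker (T' x)) *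
        Nat.card (LinearMap.range (T' x))) := by
      have h3 := card_map_mul K0.mkQ ⊤ le_top
      rw [card_top', Submodule.ker_mkQ, Submodule.map_top, Submodule.range_mkQ, card_top'] at h3
      have h4 := card_map_mul (T' x) ⊤ le_top
      rw [card_top', Submodule.map_top] at h4
      rw [h3, ← h4]
      congr 1
      exact Nat.card_congr (Submodule.submoduleOfEquivOfLe hW1W).toEquiv
    have hlt' := hstrict _ (by rintro _ ⟨r, -, rfl⟩; exact r.2) hne
    rw [hEcard]
    refine lt_of_mul_lt_mul_right ?_ (Nat.zero_le (Nat.card K1))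
    calc _ ≤ (fixg ρ W).relIndex (E.map Rc.subtype) * Nat.card ↥(W ⊓ fixd ρ (E.map Rc.subtype)) :=
          Nat.mul_le_mul_left _ (card_mono hK1)
      _ < Nat.card W := hlt'
      _ = Nat.card (LinearMap.range (T' x)) * Nat.card K1 := by rw [hWcard, hK1card]; ring
  -- the section
  have hAinv : ∀ X : Submodule (ZMod 2) V, P ≤ stab ρ X → ∀ (x : Al) (w : W), (w : V) ∈ X →
      ∃ w' : W, (w' : V) ∈ X ∧ T' x (Submodule.Quotient.mk w) = Submodule.Quotient.mk w' := by
    intro X hX x
    induction x using MonoidAlgebra.induction_on with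
    | of g =>
      intro w hw
      exact ⟨op g w, apply_mem_of_stab (hX g.2) hw, by rw [hT', hτ]⟩
    | add a b ha hb =>
      intro w hw
      obtain ⟨u, hu, hu'⟩ := ha w hw
      obtain ⟨u', hu'', hu'''⟩ := hb w hw
      exact ⟨u + u', X.add_mem hu hu'', by rw [map_add, LinearMap.add_apply, hu', hu''']; rfl⟩
    | smul c a ha =>
      intro w hw
      obtain ⟨u, hu, hu'⟩ := ha w hw
      exact ⟨c • u, X.smul_mem c hu, by rw [map_smul, LinearMap.smul_apply, hu']; rfl⟩
  let low : ∀ X : Submodule (ZMod 2) V, P ≤ stab ρ X → Submodule Al Y := fun X hX =>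
    { carrier := {q | ∃ w : W, (w : V) ∈ X ∧ Submodule.Quotient.mk w = q}
      add_mem' := by
        rintro _ _ ⟨a, ha, rfl⟩ ⟨b, hb, rfl⟩; exact ⟨a + b, X.add_mem ha hb, rfl⟩
      zero_mem' := ⟨0, X.zero_mem, rfl⟩
      smul_mem' := by
        rintro x _ ⟨w, hw, rfl⟩
        obtain ⟨w', hw', he⟩ := hAinv X hX x w hw
        exact ⟨w', hw', he.symm⟩ }
  have hback : ∀ (X : Submodule (ZMod 2) V) (hX : P ≤ stab ρ X), W1 ≤ X → ∀ w : W,
      (Submodule.Quotient.mk w : Y) ∈ low X hX → (w : V) ∈ X := by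
    rintro X hX hle w ⟨u, hu, hq⟩
    have h3 : (u : V) - w ∈ W1 := (Submodule.Quotient.eq K0).mp hq
    have := X.sub_mem hu (hle h3)
    rwa [sub_sub_cancel] at this
  have hcardlow : ∀ (X : Submodule (ZMod 2) V) (hX : P ≤ stab ρ X), W1 ≤ X → X ≤ W →
      Nat.card X = Nat.card W1 * Nat.card (low X hX) := by
    intro X hX h3 h4
    rw [← Nat.card_congr (Submodule.submoduleOfEquivOfLe h4).toEquiv,
      card_map_mul K0.mkQ (X.submoduleOf W) (by rw [Submodule.ker_mkQ]; exact fun w hw => h3 hw),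
      Submodule.ker_mkQ]
    congr 1
    exact Nat.card_congr (Submodule.submoduleOfEquivOfLe hW1W).toEquiv
  have hcov' : low N' hN' ⋖ low N hN := by
    have hsub : low N' hN' ≤ low N hN := by
      rintro q ⟨w, hw, he⟩
      exact ⟨w, hlt.le hw, he⟩
    refine ⟨lt_of_le_of_ne hsub fun e => ?_, fun C hC1 hC2 => ?_⟩
    · obtain ⟨v, hv, hv'⟩ := SetLike.exists_of_lt hlt
      exact hv' (hback N' hN' h1 ⟨v, h2 hv⟩ (e ▸ ⟨⟨v, h2 hv⟩, hv, rfl⟩))
    · let X : Submodule (ZMod 2) V :=
        { carrier := {v | ∃ h : v ∈ W, (Submodule.Quotient.mk ⟨v, h⟩ : Y) ∈ C}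
          add_mem' := by
            rintro a b ⟨ha, ha'⟩ ⟨hb, hb'⟩; exact ⟨W.add_mem ha hb, C.add_mem ha' hb'⟩
          zero_mem' := ⟨W.zero_mem, C.zero_mem⟩
          smul_mem' := by
            rintro c a ⟨ha, ha'⟩
            refine ⟨W.smul_mem c ha, ?_⟩
            rcases (by decide : ∀ c : ZMod 2, c = 0 ∨ c = 1) c with rfl | rfl
            · simp only [zero_smul]; exact C.zero_mem
            · simp only [one_smul]; exact ha' }
      have hXinv : P ≤ stab ρ X := fun g hg => mem_stab_of_forall fun v hv => by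
        obtain ⟨hv, hv'⟩ := hv
        refine ⟨apply_mem_of_stab (hW hg) hv, ?_⟩
        have h3 := C.smul_mem (MonoidAlgebra.of (ZMod 2) P ⟨g, hg⟩) hv'
        have e : MonoidAlgebra.of (ZMod 2) P ⟨g, hg⟩ • (Submodule.Quotient.mk ⟨v, hv⟩ : Y) =
            Submodule.Quotient.mk (op ⟨g, hg⟩ ⟨v, hv⟩) := by
          show T' (MonoidAlgebra.of (ZMod 2) P ⟨g, hg⟩) _ = _
          rw [hT', hτ]
        rw [e] at h3
        exact h3
      rcases hmax X hXinv (fun v hv => ⟨h2 (hlt.le hv), hC1.le ⟨⟨v, _⟩, hv, rfl⟩⟩)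
        (fun v ⟨hv, hv'⟩ => hback N hN (h1.trans hlt.le) ⟨v, hv⟩ (hC2.le hv')) with h | h
      · refine hC1.not_ge fun q hq => ?_
        obtain ⟨w, rfl⟩ := Submodule.Quotient.mk_surjective _ q
        exact ⟨w, h ▸ (⟨w.2, hq⟩ : (w : V) ∈ X), rfl⟩
      · refine hC2.not_ge ?_
        rintro _ ⟨w, hw, rfl⟩
        obtain ⟨hv, hv'⟩ := (h.symm ▸ hw : (w : V) ∈ X)
        exact hv'
  have hgap := rank_gap (R := Al) (Y := Y) (Z := D) hrank hcov'
  have hD : Nat.card D = Nat.card Z := by
    rw [Module.natCard_eq_pow_finrank (K := ZMod 2) (V := D),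
      Module.natCard_eq_pow_finrank (K := ZMod 2) (V := ↥Z), Subspace.dual_finrank_eq]
  rw [hD, hZcard] at hgap
  have hY : Nat.card W = Nat.card W1 * Nat.card Y := by
    rw [Submodule.card_eq_card_quotient_mul_card K0]
    congr 1
    exact Nat.card_congr (Submodule.submoduleOfEquivOfLe hW1W).toEquiv
  rw [hcardlow N hN (h1.trans hlt.le) h2, hcardlow N' hN' h1 (hlt.le.trans h2), hY]
  calc (fixg ρ W).relIndex Rc * (Nat.card W1 * Nat.card (low N hN)) * Nat.card W1
      = ((fixg ρ W).relIndex Rc * Nat.card (low N hN)) * (Nat.card W1 * Nat.card W1) := by ring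
    _ ≤ (Nat.card Y * Nat.card (low N' hN')) * (Nat.card W1 * Nat.card W1) :=
        Nat.mul_le_mul_right _ hgap
    _ = _ := by ring

end Cfsg.Agent.Invol.NoOff
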