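import Cfsg.Agent.Lib.Invol.NoOff.Pairing
import Cfsg.Agent.Lib.Invol.NoOff.Chain

/-!
The contradiction inside a subgroup with a unique maximal subgroup over an offender.
-/

set_option autoImplicit false
set_option linter.unusedSectionVars false
set_option linter.style.haveILetI false

namespace Cfsg.Agent.Invol.NoOff

open Subgroup Cfsg.Agent.Block.SFour
open scoped Pointwise

universe u v

variable {G : Type u} [Group G] [Finite G] {V : Type v} [AddCommGroup V] [Module (ZMod 2) V]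
  [Finite V] {ρ : Representation (ZMod 2) G V}

theorem fixd_inf_le_sup (A A' : Subgroup G) : fixd ρ A ⊓ fixd ρ A' ≤ fixd ρ (A ⊔ A') := by
  intro v hv
  have h : A ⊔ A' ≤ fixg ρ (fixd ρ A ⊓ fixd ρ A') :=
    sup_le (fun a ha u hu => hu.1 a ha) (fun a ha u hu => hu.2 a ha)
  exact fun a ha => h ha v hv

theorem cj_le_of_norm {P R : Subgroup G} (hRn : P ≤ normalizer (R : Set G)) {g : G} (hg : g ∈ P)
    {B : Subgroup G} (hB : B ≤ R) : MulAut.conj g • B ≤ R :=
  (Subgroup.pointwise_smul_le_pointwise_smul_iff.mpr hB).trans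
    (Grp.mem_normalizer_iff_smul.mp (hRn hg)).le

/-- The image of a set of moves. -/
theorem card_moves {Rc : Subgroup G} {W : Submodule (ZMod 2) V}
    (hmove : ∀ r ∈ Rc, ∀ w ∈ W, ρ r w + w ∈ fixd ρ Rc) {B B' : Subgroup G} (hB : B ≤ Rc)
    (hB' : B' ≤ Rc)
    (hsep : ∀ b ∈ B, ∀ b' ∈ B', (∀ w ∈ W, ρ b w + w = ρ b' w + w) → b ∈ fixg ρ W) :
    (fixg ρ W).relIndex B * (fixg ρ W).relIndex B' ≤ (fixg ρ W).relIndex Rc := by
  let φ : Additive Rc →+ (W → V) :=
    { toFun := fun r w => ρ ((Additive.toMul r : Rc) : G) (w : V) + w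
      map_zero' := funext fun w => by
        show ρ (1 : G) (w : V) + w = 0
        rw [map_one]; exact add_self_zero _
      map_add' := fun r s => funext fun w => by
        set x := ((Additive.toMul r : Rc) : G)
        set y := ((Additive.toMul s : Rc) : G)
        show ρ (x * y) (w : V) + w = (ρ x w + w) + (ρ y w + w)
        have hr : ρ x (ρ y (w : V) + w) = ρ y (w : V) + w :=
          hmove y (Additive.toMul s).2 w w.2 x (Additive.toMul r).2
        rw [map_add] at hr
        rw [rho_mul]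
        calc ρ x (ρ y (w : V)) + (w : V)
            = ρ x (ρ y (w : V)) + (ρ x w + ρ x w) + w := by rw [add_self_zero, add_zero]
          _ = (ρ x (ρ y (w : V)) + ρ x w) + (ρ x w + w) := by abel
          _ = (ρ x w + w) + (ρ y w + w) := by rw [hr, add_comm] }
  have hker : φ.ker = Subgroup.toAddSubgroup ((fixg ρ W).subgroupOf Rc) := by
    ext r
    constructor
    · intro h w hw
      have h1 : ρ ((Additive.toMul r : Rc) : G) w + w = 0 := congrFun h ⟨w, hw⟩
      rw [← neg_eq_self w]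
      exact eq_neg_of_add_eq_zero_left (by rw [neg_eq_self]; exact h1)
    · intro h
      refine funext fun w => ?_
      show ρ ((Additive.toMul r : Rc) : G) (w : V) + w = 0
      rw [show ρ ((Additive.toMul r : Rc) : G) (w : V) = w from h w w.2]; exact add_self_zero _
  have hcard : ∀ E : Subgroup G, E ≤ Rc →
      (fixg ρ W).relIndex E = Nat.card ((Subgroup.toAddSubgroup (E.subgroupOf Rc)).map φ) := by
    intro E hE
    rw [← AddSubgroup.relIndex_ker, hker, Subgroup.relIndex_toAddSubgroup,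
      ← Subgroup.relIndex_map_map_of_injective _ _ Rc.subtype_injective,
      Subgroup.map_subgroupOf_eq_of_le hE, Subgroup.subgroupOf_map_subtype]
    conv_lhs => rw [← Subgroup.inf_relIndex_right]
    conv_rhs => rw [← Subgroup.inf_relIndex_right, inf_assoc, inf_eq_right.mpr hE]
  rw [hcard B hB, hcard B' hB', hcard Rc le_rfl, ← Nat.card_prod]
  set I := (Subgroup.toAddSubgroup (B.subgroupOf Rc)).map φ
  set I' := (Subgroup.toAddSubgroup (B'.subgroupOf Rc)).map φ
  set J := (Subgroup.toAddSubgroup (Rc.subgroupOf Rc)).map φ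
  have hI : I ≤ J := AddSubgroup.map_mono fun x _ => (Additive.toMul x : Rc).2
  have hI' : I' ≤ J := AddSubgroup.map_mono fun x _ => (Additive.toMul x : Rc).2
  have hdis : ∀ x ∈ I, x ∈ I' → x = 0 := by
    rintro _ ⟨r, hr, rfl⟩ ⟨s, hs, hsr⟩
    have h1 := hsep _ hr _ hs fun w hw => (congrFun hsr ⟨w, hw⟩).symm
    refine funext fun w => ?_
    show ρ ((Additive.toMul r : Rc) : G) (w : V) + w = 0
    rw [show ρ ((Additive.toMul r : Rc) : G) (w : V) = w from h1 w w.2]; exact add_self_zero _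
  refine Nat.card_le_card_of_injective
    (fun x : I × I' => (⟨x.1 + x.2, J.add_mem (hI x.1.2) (hI' x.2.2)⟩ : J)) ?_
  rintro ⟨a, a'⟩ ⟨c, c'⟩ h
  have h1 : (a : W → V) + a' = c + c' := congrArg Subtype.val h
  have h2 : (a : W → V) - c = c' - a' := by
    rw [sub_eq_sub_iff_add_eq_add, h1, add_comm]
  have h3 : (a : W → V) - c = 0 :=
    hdis _ (I.sub_mem a.2 c.2) (h2 ▸ I'.sub_mem c'.2 a'.2)
  have h4 : (a : W → V) = c := sub_eq_zero.mp h3
  have h5 : (a' : W → V) = c' := add_left_cancel (h4 ▸ h1 : (c : W → V) + a' = c + c')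
  exact Prod.ext (Subtype.ext h4) (Subtype.ext h5)

set_option maxHeartbeats 1000000 in
/-- No offender outside the core in a subgroup with a unique maximal subgroup over it. -/
theorem parabolic_false {n : ℕ} (IH : NoOffBelow.{u, v} n) (hnt : NoThree G)
    (W0 : Submodule (ZMod 2) V)
    (hW1 : ∀ E, MinOff ρ E → E ≤ stab ρ W0 → E ≤ fixg ρ W0)
    (hW2 : ∀ E : Subgroup G, IsPGroup 2 E → E ≤ stab ρ W0 → (∀ x ∈ E, x ^ 2 ∈ fixg ρ W0) →
      ¬ E ≤ fixg ρ W0 →
      (fixg ρ W0).relIndex E * Nat.card ↥(W0 ⊓ fixd ρ E) < Nat.card W0)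
    {P T R A : Subgroup G} (hP : Nat.card P < n) (hT : Grp.IsSylowIn 2 T P)
    (hTS : T ≤ stab ρ W0) (hRT : R ≤ T) (hRn : P ≤ normalizer (R : Set G))
    (hRmax : ∀ D ≤ P, IsPGroup 2 D → P ≤ normalizer (D : Set G) → D ≤ R)
    (hA : MinOff ρ A) (hAT : A ≤ T) (hAR : ¬ A ≤ R)
    (hU : ∀ H < P, A ≤ H → H ≤ stab ρ W0) (hPS : ¬ P ≤ stab ρ W0) : False := by
  haveI : Fact (Nat.Prime 2) := ⟨Nat.prime_two⟩
  classical
  haveI : Fintype P := Fintype.ofFinite _
  have hAP : A ≤ P := hAT.trans hT.1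
  have hAW : A ≤ fixg ρ W0 := hW1 A hA (hAT.trans hTS)
  have hW0A : W0 ≤ fixd ρ A := fun w hw a ha => hAW ha w hw
  set F := fixd ρ P with hF
  -- generation by two conjugates
  have hbig : ∀ g ∈ P, ¬ MulAut.conj g • A ≤ stab ρ W0 → P ≤ A ⊔ MulAut.conj g • A := by
    intro g hg hne
    by_contra hcon
    have hlt : A ⊔ MulAut.conj g • A < P :=
      lt_of_le_not_ge (sup_le hAP ((cj_le_iff hg).mpr hAP)) hcon
    exact hne (le_sup_right.trans (hU _ hlt le_sup_left))
  obtain ⟨g0, hg0, hg0'⟩ : ∃ g ∈ P, ¬ MulAut.conj g • A ≤ stab ρ W0 := by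
    by_contra hall
    push Not at hall
    set K := ⨆ g : P, MulAut.conj (g : G) • A
    have hKP : K ≤ P := iSup_le fun g => (cj_le_iff g.2).mpr hAP
    have hKS : K ≤ stab ρ W0 := iSup_le fun g => hall g g.2
    have hKn : P ≤ normalizer (K : Set G) := by
      intro x hx
      rw [Grp.mem_normalizer_iff_smul]
      refine Subgroup.eq_of_le_of_card_ge ?_ (card_cj x _).ge
      rw [Subgroup.pointwise_smul_subset_iff]
      refine iSup_le fun g => ?_
      rw [← Subgroup.pointwise_smul_subset_iff, smul_smul, ← map_mul]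
      exact le_iSup_of_le ⟨x * g, P.mul_mem hx g.2⟩ le_rfl
    have hAK : A ≤ K := le_iSup_of_le ⟨1, P.one_mem⟩ (by simp)
    have hD := sylowIn_inf_normal hKP hKn hT
    rcases (inf_le_left : P ⊓ normalizer ((T ⊓ K : Subgroup G) : Set G) ≤ P).eq_or_lt with h | h
    · exact hAR ((le_inf hAT hAK).trans
        (hRmax _ (inf_le_left.trans hT.1) hD.2.1 (h ▸ inf_le_right)))
    · exact hPS (le_of_frattini hKP hKn hD hKS (hU _ h
        (le_inf hAP ((le_inf hAT hAK).trans Subgroup.le_normalizer))))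
  have hgen0 := hbig g0 hg0 hg0'
  have hFle : fixd ρ A ⊓ fixd ρ (MulAut.conj g0 • A) ≤ F :=
    (fixd_inf_le_sup _ _).trans (fixd_anti hgen0)
  -- the sum of the conjugates
  let c : P → Submodule (ZMod 2) V := fun g => W0.map (ρ (g : G))
  set W : Submodule (ZMod 2) V := Finset.univ.sup c with hW
  have hcW : ∀ g : P, c g ≤ W := fun g => Finset.le_sup (Finset.mem_univ g)
  have hWP : P ≤ stab ρ W := by
    intro x hx
    refine mem_stab_of_forall fun v hv => ?_
    have h1 : W ≤ W.comap (ρ x) := by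
      refine Finset.sup_le fun g _ => ?_
      rintro _ ⟨u, hu, rfl⟩
      refine hcW (⟨x, hx⟩ * g) ⟨u, hu, ?_⟩
      rw [Subgroup.coe_mul, rho_mul]
    exact h1 hv
  have hW0W : W0 ≤ W := fun v hv => hcW 1 ⟨v, hv, by
    rw [Subgroup.coe_one, map_one]; rfl⟩
  set B := A ⊓ R with hB
  have hBA : B ≤ A := inf_le_left
  have hRP : R ≤ P := hRT.trans hT.1
  -- moves of the conjugates of `B`
  have hBmove0 : ∀ g ∈ P, ∀ b ∈ B, ∀ w ∈ W0, ρ (g * b * g⁻¹) w + w ∈ F := by
    intro g hg b hb w hw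
    by_cases h : MulAut.conj g • A ≤ stab ρ W0
    · rw [hW1 _ (hA.cj g) h (conj_mem_cj hb.1) w hw, add_self_zero]
      exact F.zero_mem
    · refine fixd_anti (hbig g hg h) (fixd_inf_le_sup _ _ ⟨?_, ?_⟩)
      · have hr : g * b * g⁻¹ ∈ R :=
          cj_le_of_norm hRn hg (le_refl R) (conj_mem_cj hb.2)
        exact (fixd ρ A).add_mem (hW0A (apply_mem_of_stab (hTS (hRT hr)) hw)) (hW0A hw)
      · exact (hA.cj g).quadratic (conj_mem_cj hb.1) w
  have hFfix : ∀ x ∈ P, ∀ v ∈ F, ρ x v = v := fun x hx v hv => hv x hx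
  have hBmove : ∀ g ∈ P, ∀ b ∈ B, ∀ w ∈ W, ρ (g * b * g⁻¹) w + w ∈ F := by
    intro g hg b hb
    have h1 : W ≤ F.comap (ρ (g * b * g⁻¹) + LinearMap.id) := by
      refine Finset.sup_le fun h _ => ?_
      rintro _ ⟨u, hu, rfl⟩
      show ρ (g * b * g⁻¹) (ρ (h : G) u) + ρ (h : G) u ∈ F
      have h2 := hBmove0 _ (P.mul_mem (P.inv_mem h.2) hg) b hb u hu
      have h3 := hFfix _ h.2 _ h2
      rw [map_add, ← rho_mul] at h3
      rw [← rho_mul]
      have e : (h : G) * ((h : G)⁻¹ * g * b * ((h : G)⁻¹ * g)⁻¹) = g * b * g⁻¹ * h := by group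
      rw [e] at h3
      exact h3.symm ▸ h2
    exact fun w hw => h1 hw
  set Rc := ⨆ g : P, MulAut.conj (g : G) • B with hRc
  have hRcR : Rc ≤ R := iSup_le fun g => cj_le_of_norm hRn g.2 inf_le_right
  have hRcP : Rc ≤ P := hRcR.trans hRP
  have hRcn : P ≤ normalizer (Rc : Set G) := by
    intro x hx
    rw [Grp.mem_normalizer_iff_smul]
    refine Subgroup.eq_of_le_of_card_ge ?_ (card_cj x _).ge
    rw [Subgroup.pointwise_smul_subset_iff]
    refine iSup_le fun g => ?_
    rw [← Subgroup.pointwise_smul_subset_iff, smul_smul, ← map_mul]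
    exact le_iSup_of_le ⟨x * g, P.mul_mem hx g.2⟩ le_rfl
  have hmove : ∀ r ∈ Rc, ∀ w ∈ W, ρ r w + w ∈ F := by
    let M : Subgroup G :=
      { carrier := {r | r ∈ P ∧ ∀ w ∈ W, ρ r w + w ∈ F}
        one_mem' := ⟨P.one_mem, fun w _ => by
          rw [map_one]; exact (add_self_zero w).symm ▸ F.zero_mem⟩
        mul_mem' := fun {r s} hr hs => ⟨P.mul_mem hr.1 hs.1, fun w hw => by
          have h1 := hFfix _ hr.1 _ (hs.2 w hw)
          rw [map_add] at h1
          have h2 := F.add_mem (hs.2 w hw) (hr.2 w hw)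
          rw [← h1] at h2
          rwa [rho_mul, show ρ r (ρ s w) + w = ρ r (ρ s w) + (ρ r w + ρ r w) + w by
            rw [add_self_zero, add_zero], show ρ r (ρ s w) + (ρ r w + ρ r w) + w =
            ρ r (ρ s w) + ρ r w + (ρ r w + w) by abel]⟩
        inv_mem' := fun {r} hr => ⟨P.inv_mem hr.1, fun w hw => by
          have h1 := hFfix _ (P.inv_mem hr.1) _ (hr.2 w hw)
          rw [map_add, rho_inv_apply] at h1
          rw [add_comm, h1]; exact hr.2 w hw⟩ }
    have hle : Rc ≤ M := iSup_le fun g x hx => by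
      refine ⟨(cj_le_iff g.2).mpr (hBA.trans hAP) hx, fun w hw => ?_⟩
      have h1 := hBmove g g.2 _ (mem_cj.mp hx) w hw
      rwa [show (g : G) * ((g : G)⁻¹ * x * g) * (g : G)⁻¹ = x by group] at h1
    exact fun r hr => (hle hr).2
  -- no subgroup of `Rc` offends on `W`
  have hb : ∀ i : P, ∀ E ≤ Rc,
      (fixg ρ (c i)).relIndex E * Nat.card ↥(c i ⊓ fixd ρ E) ≤ Nat.card (c i) ∧
      (¬ E ≤ fixg ρ (c i) →
        (fixg ρ (c i)).relIndex E * Nat.card ↥(c i ⊓ fixd ρ E) < Nat.card (c i)) := by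
    intro i E hE
    set E' := MulAut.conj ((i : G)⁻¹) • E with hE'
    have hE'R : E' ≤ Rc := (Subgroup.pointwise_smul_le_pointwise_smul_iff.mpr hE).trans
      (Grp.mem_normalizer_iff_smul.mp (hRcn (P.inv_mem i.2))).le
    have hback : MulAut.conj (i : G) • E' = E := by
      rw [hE', smul_smul, ← map_mul, mul_inv_cancel, map_one, one_smul]
    have e1 : (fixg ρ (c i)).relIndex E = (fixg ρ W0).relIndex E' := by
      conv_lhs => rw [← hback, fixg_map, Subgroup.relIndex_pointwise_smul]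
    have e2 : Nat.card ↥(c i ⊓ fixd ρ E) = Nat.card ↥(W0 ⊓ fixd ρ E') := by
      conv_lhs => rw [← hback, ← map_inf_fixd, card_map_rho]
    have e3 : E ≤ fixg ρ (c i) ↔ E' ≤ fixg ρ W0 := by
      conv_lhs => rw [← hback, fixg_map, Subgroup.pointwise_smul_le_pointwise_smul_iff]
    rw [e1, e2, card_map_rho, e3]
    have hlt : ¬ E' ≤ fixg ρ W0 →
        (fixg ρ W0).relIndex E' * Nat.card ↥(W0 ⊓ fixd ρ E') < Nat.card W0 := by
      refine hW2 E' (hT.2.1.to_le (hE'R.trans (hRcR.trans hRT)))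
        (hE'R.trans (hRcR.trans (hRT.trans hTS))) fun x hx w hw => ?_
      have h1 := hFfix x (hRcP (hE'R hx)) _ (hmove x (hE'R hx) w (hW0W hw))
      rw [map_add] at h1
      rw [pow_two, rho_mul]
      exact add_right_cancel (h1.trans (add_comm _ _))
    refine ⟨?_, hlt⟩
    by_cases h : E' ≤ fixg ρ W0
    · rw [Subgroup.relIndex_eq_one.mpr h, one_mul]; exact card_mono inf_le_left
    · exact (hlt h).le
  have HR := chain_bound c hb Finset.univ
  rw [← hW] at HR
  set W1 := W ⊓ fixd ρ Rc with hW1def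
  have hW1W : W1 ≤ W := inf_le_left
  have hW1P : P ≤ stab ρ W1 := fun x hx => mem_stab_of_forall fun v hv => by
    refine ⟨apply_mem_of_stab (hWP hx) hv.1, fun r hr => ?_⟩
    have h1 := congrArg (ρ x) (hv.2 _ (Grp.mem_conj_normalizer' (hRcn hx) hr))
    rwa [rho_mul, rho_mul, rho_apply_inv] at h1
  have hFW1 : W ⊓ F ≤ W1 := inf_le_inf_left _ (fixd_anti hRcP)
  -- an irreducible section moved by `P`
  obtain ⟨N', N, hcov, hnon, hcase⟩ : ∃ N' N, Cov ρ P N' N ∧ ¬ P ≤ kern ρ P N' N ∧
      (N ≤ W1 ∨ W1 ≤ N' ∧ N ≤ W) := by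
    by_contra hall
    push Not at hall
    have hodd : ∀ x ∈ P, Odd (orderOf x) → x ∈ fixg ρ W := by
      intro x hx ho
      have hb1 : x ∈ fixg ρ W1 := by
        refine fixes_of_trivial_factors hx ho (L := ⊥) ?_ bot_le ?_ hW1P ?_
        · exact fun y _ => mem_stab_of_forall fun u hu => by
            rw [Submodule.mem_bot] at hu; rw [hu, map_zero]; exact Submodule.zero_mem _
        · intro u hu
          rw [Submodule.mem_bot] at hu; rw [hu, map_zero]
        · intro N' N hcov _ hN v hv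
          by_contra hcon
          refine (hall N' N hcov ?_).1 hN
          exact fun hle => hcon ((hle hx).2.2 v hv)
      refine fixes_of_trivial_factors hx ho hW1P hW1W hb1 hWP ?_
      intro N' N hcov hN' hN v hv
      by_contra hcon
      exact (hall N' N hcov (fun hle => hcon ((hle hx).2.2 v hv))).2 hN' hN
    refine hPS (le_trans (Grp.le_of_forall_sylow (H := P ⊓ stab ρ W0) inf_le_left ?_) inf_le_right)
    intro q hq
    rcases eq_or_ne q 2 with rfl | hq2
    · exact ⟨T, hT, le_inf hT.1 hTS⟩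
    · obtain ⟨X, hX⟩ := Grp.exists_isSylowIn q P
      refine ⟨X, hX, fun x hx => ⟨hX.1 hx, fixg_le_stab _ (fixg_anti hW0W (hodd x (hX.1 hx) ?_))⟩⟩
      obtain ⟨k, hk⟩ := hX.2.1 ⟨x, hx⟩
      have hdvd : orderOf x ∣ q ^ k := orderOf_dvd_of_pow_eq_one (congrArg Subtype.val hk)
      exact ((Nat.Prime.odd_of_ne_two hq.out hq2).pow).of_dvd_nat hdvd
  obtain ⟨hlt, hN', hN, hmax⟩ := id hcov
  set K := kern ρ P N' N with hK
  have hKn : P ≤ normalizer (K : Set G) := le_normalizer_kern hN' hN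
  have hAne : ¬ A ≤ K := fun hle => hnon (hgen0.trans (sup_le hle
    ((Subgroup.pointwise_smul_le_pointwise_smul_iff.mpr hle).trans
      (Grp.mem_normalizer_iff_smul.mp (hKn hg0)).le)))
  have hKA : K ⊓ A = B := by
    refine le_antisymm (le_inf inf_le_right ?_) (le_inf ?_ hBA)
    · have hD := sylowIn_inf_normal (kern_le P N' N) hKn hT
      have hTD : T ≤ normalizer ((T ⊓ K : Subgroup G) : Set G) := fun t ht => by
        rw [Grp.mem_normalizer_iff_smul, Subgroup.smul_inf,
          Subgroup.conj_smul_eq_self_of_mem ht, Grp.mem_normalizer_iff_smul.mp (hKn (hT.1 ht))]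
      rcases (inf_le_left : P ⊓ normalizer ((T ⊓ K : Subgroup G) : Set G) ≤ P).eq_or_lt with h | h
      · exact (le_inf (inf_le_right.trans hAT) inf_le_left).trans
          (hRmax _ (inf_le_left.trans hT.1) hD.2.1 (h ▸ inf_le_right))
      · exfalso
        rcases (sup_le (kern_le P N' N) hAP : K ⊔ A ≤ P).eq_or_lt with h' | h'
        · have hinv : P ≤ stab ρ (fxm ρ A N' N) := by
            rw [← h']
            refine sup_le (fun k hk => mem_stab_of_forall fun v hv => ?_)
              (fun a ha => mem_stab_of_forall fun v hv => ?_)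
            · refine ⟨apply_mem_of_stab (hN hk.1) hv.1, fun a ha => ?_⟩
              have h1 := hk.2.2 v hv.1
              have h2 := apply_mem_of_stab (hN' (hAP ha)) h1
              rw [map_add] at h2
              have h3 := N'.add_mem (N'.add_mem h2 h1) (hv.2 a ha)
              rwa [show ρ a (ρ k v) + ρ a v + (ρ k v + v) + (ρ a v + v) =
                ρ a (ρ k v) + ρ k v + (ρ a v + ρ a v) + (v + v) by abel, add_self_zero,
                add_self_zero, add_zero, add_zero] at h3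
            · have h1 : ρ a v = (ρ a v + v) + v := by rw [add_assoc, add_self_zero, add_zero]
              rw [h1]
              refine Submodule.add_mem _ ⟨hlt.le (hv.2 a ha), fun b hb => ?_⟩ hv
              exact N'.add_mem (apply_mem_of_stab (hN' (hAP hb)) (hv.2 a ha)) (hv.2 a ha)
          have hN'f : N' ≤ fxm ρ A N' N := fun v hv => ⟨hlt.le hv, fun a ha =>
            N'.add_mem (apply_mem_of_stab (hN' (hAP ha)) hv) hv⟩
          rcases hmax _ hinv hN'f (fun v hv => hv.1) with e | e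
          · obtain ⟨v, hv, hv', hfix⟩ := exists_fixed_mod (ρ := ρ) hA.isPGroup hlt
              (hAP.trans hN') (hAP.trans hN)
            exact hv' (e ▸ (⟨hv, fun a ha => by rw [← sub_eq_add']; exact hfix a ha⟩ :
              v ∈ fxm ρ A N' N))
          · exact hAne fun a ha => (mem_kern hN' hN).mpr ⟨hAP ha, fun v hv =>
              ((e.symm ▸ hv : v ∈ fxm ρ A N' N).2 a ha)⟩
        · exact hPS (le_of_frattini (kern_le P N' N) hKn hD (le_sup_left.trans (hU _ h' le_sup_right))
            (hU _ h (le_inf hAP (hAT.trans hTD))))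
    · intro b hb
      exact (mem_kern hN' hN).mpr ⟨hAP hb.1, pnormal_trivial hcov (hT.2.1.to_le hRT) hRP hRn b hb.2⟩
  have hNW : N ≤ W := hcase.elim (fun h => h.trans hW1W) (fun h => h.2)
  set kA := K.relIndex A with hkA
  set b := (fixg ρ W).relIndex B with hbdef
  have hind : (fixg ρ W).relIndex A = b * kA := by
    have hle : fixg ρ W ⊓ A ≤ B := by
      rw [← hKA]
      exact le_inf (fun x hx => (mem_kern hN' hN).mpr ⟨hAP hx.2, fun v hv => by
        rw [hx.1 v (hNW hv)]; exact (add_self_zero v).symm ▸ N'.zero_mem⟩) inf_le_right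
    rw [← Subgroup.inf_relIndex_right, ← Subgroup.relIndex_mul_relIndex _ B A hle hBA, hbdef, hkA]
    congr 1
    · rw [← Subgroup.inf_relIndex_right (fixg ρ W ⊓ A) B, inf_assoc, inf_eq_right.mpr hBA,
        Subgroup.inf_relIndex_right]
    · rw [← hKA, Subgroup.inf_relIndex_right]
  set CA := W ⊓ fixd ρ A with hCA
  have hweight : Nat.card W ≤ b * kA * Nat.card CA := by
    rw [← hind]
    have h1 := hA.weight (inf_le_right : fixg ρ W ⊓ A ≤ A)
    have h2 : W ⊔ fixd ρ A ≤ fixd ρ (fixg ρ W ⊓ A) :=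
      sup_le (fun w hw x hx => hx.1 w hw) (fixd_anti inf_le_right)
    have h3 := card_sup_mul_inf W (fixd ρ A)
    have h4 : Nat.card A = (fixg ρ W).relIndex A * Nat.card ↥(fixg ρ W ⊓ A) := by
      rw [← Subgroup.inf_relIndex_right, ← Subgroup.relIndex_bot_left (fixg ρ W ⊓ A),
        ← Subgroup.relIndex_bot_left A, mul_comm]
      exact (Subgroup.relIndex_mul_relIndex _ _ _ bot_le inf_le_right).symm
    refine Nat.le_of_mul_le_mul_right ?_
      (Nat.mul_pos (Nat.card_pos (α := ↥(fixg ρ W ⊓ A))) (Nat.card_pos (α := ↥(fixd ρ A))))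
    calc Nat.card W * (Nat.card ↥(fixg ρ W ⊓ A) * Nat.card (fixd ρ A))
        = Nat.card ↥(fixg ρ W ⊓ A) * Nat.card ↥(W ⊔ fixd ρ A) * Nat.card CA := by
          rw [hCA, mul_assoc, h3]; ring
      _ ≤ Nat.card ↥(fixg ρ W ⊓ A) * Nat.card (fixd ρ (fixg ρ W ⊓ A)) * Nat.card CA :=
          Nat.mul_le_mul_right _ (Nat.mul_le_mul_left _ (card_mono h2))
      _ ≤ Nat.card A * Nat.card (fixd ρ A) * Nat.card CA := Nat.mul_le_mul_right _ h1
      _ = _ := by rw [h4]; ring
  obtain ⟨hsq, hfx⟩ := factor_bound IH hnt hP hA.1.1 hAP (fun a ha v => hA.quadratic ha v) hg0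
    hgen0 hcov hnon hAne
  rcases hcase with hN1 | ⟨hN1, -⟩
  · -- below `W1`
    have hle : CA ⊔ N ≤ W ⊓ fixd ρ B := sup_le (inf_le_inf_left _ (fixd_anti hBA))
      (le_inf hNW ((hN1.trans inf_le_right).trans
        (fixd_anti (le_iSup_of_le (⟨1, P.one_mem⟩ : P) (by simp)))))
    have hinf : CA ⊓ N ≤ fxm ρ A N' N := fun v hv => ⟨hv.2, fun a ha => by
      rw [hv.1.2 a ha]; exact (add_self_zero v).symm ▸ N'.zero_mem⟩
    have h1 : Nat.card CA * Nat.card N ≤ Nat.card ↥(W ⊓ fixd ρ B) * Nat.card (fxm ρ A N' N) := by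
      rw [← card_sup_mul_inf CA N]
      exact Nat.mul_le_mul (card_mono hle) (card_mono hinf)
    have h2 := (HR B (le_iSup_of_le (⟨1, P.one_mem⟩ : P) (by simp))).1
    refine lt_irrefl (Nat.card W * Nat.card N) ?_
    calc Nat.card W * Nat.card N ≤ b * kA * Nat.card CA * Nat.card N := Nat.mul_le_mul_right _ hweight
      _ = b * kA * (Nat.card CA * Nat.card N) := by ring
      _ ≤ b * kA * (Nat.card ↥(W ⊓ fixd ρ B) * Nat.card (fxm ρ A N' N)) := Nat.mul_le_mul_left _ h1
      _ = (b * Nat.card ↥(W ⊓ fixd ρ B)) * (kA * Nat.card (fxm ρ A N' N)) := by ring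
      _ ≤ Nat.card W * (kA * Nat.card (fxm ρ A N' N)) := Nat.mul_le_mul_right _ h2
      _ < Nat.card W * Nat.card N := Nat.mul_lt_mul_of_pos_left hfx Nat.card_pos
  · -- between `W1` and `W`
    set A' := MulAut.conj g0 • A with hA'
    set CA' := W ⊓ fixd ρ A' with hCA'
    have hCA'card : Nat.card CA' = Nat.card CA := by
      have : CA' = CA.map (ρ g0) := by
        rw [hCA', hA', hCA, map_inf_fixd]
        congr 1
        refine le_antisymm (fun v hv => ⟨ρ g0⁻¹ v, apply_mem_of_stab (hWP (P.inv_mem hg0)) hv,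
          rho_apply_inv ρ g0 v⟩) ?_
        rintro _ ⟨v, hv, rfl⟩
        exact apply_mem_of_stab (hWP hg0) hv
      rw [this, card_map_rho]
    have h1 : Nat.card CA * Nat.card CA ≤ Nat.card W * Nat.card W1 := by
      calc Nat.card CA * Nat.card CA = Nat.card CA * Nat.card CA' := by rw [hCA'card]
        _ = Nat.card ↥(CA ⊔ CA') * Nat.card ↥(CA ⊓ CA') := (card_sup_mul_inf CA CA').symm
        _ ≤ Nat.card W * Nat.card W1 := by
            refine Nat.mul_le_mul (card_mono (sup_le inf_le_left inf_le_left)) (card_mono ?_)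
            exact fun v hv => hFW1 ⟨hv.1.1, hFle ⟨hv.1.2, hv.2.2⟩⟩
    have h2 : Nat.card W ≤ (b * kA) ^ 2 * Nat.card W1 := by
      refine Nat.le_of_mul_le_mul_left ?_ (Nat.card_pos (α := W))
      calc Nat.card W * Nat.card W ≤ (b * kA * Nat.card CA) * (b * kA * Nat.card CA) :=
            Nat.mul_self_le_mul_self hweight
        _ = (b * kA) ^ 2 * (Nat.card CA * Nat.card CA) := by ring
        _ ≤ (b * kA) ^ 2 * (Nat.card W * Nat.card W1) := Nat.mul_le_mul_left _ h1
        _ = _ := by ring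
    set B' := MulAut.conj g0 • B with hB'
    have hB'Rc : B' ≤ Rc := le_iSup_of_le (⟨g0, hg0⟩ : P) le_rfl
    have hBRc : B ≤ Rc := le_iSup_of_le (⟨1, P.one_mem⟩ : P) (by simp)
    have hb' : (fixg ρ W).relIndex B' = b := by
      conv_lhs => rw [hB', show fixg ρ W = MulAut.conj g0 • fixg ρ W from
        (Grp.mem_normalizer_iff_smul.mp (stab_le_normalizer_fixg (hWP hg0))).symm,
        Subgroup.relIndex_pointwise_smul]
    have hs : b * b ≤ (fixg ρ W).relIndex Rc := by
      have := card_moves (fun r hr w hw => fixd_anti hRcP (hmove r hr w hw)) hBRc hB'Rc ?_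
      · rwa [hb'] at this
      intro x hx x' hx' he
      -- the common move is invariant
      have hinv : A ⊔ A' ≤ ({ carrier := {p | p ∈ P ∧ ∀ w ∈ W, ρ x (ρ p w) + ρ p w = ρ x w + w}
                              one_mem' := ⟨P.one_mem, fun w _ => by rw [map_one]; rfl⟩
                              mul_mem' := fun {p q} hp hq => ⟨P.mul_mem hp.1 hq.1, fun w hw => by
                                rw [rho_mul, hp.2 _ (apply_mem_of_stab (hWP hq.1) hw), hq.2 w hw]⟩
                              inv_mem' := fun {p} hp => ⟨P.inv_mem hp.1, fun w hw => by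
                                have := hp.2 _ (apply_mem_of_stab (hWP (P.inv_mem hp.1)) hw)
                                rwa [rho_apply_inv, eq_comm] at this⟩ } : Subgroup G) := by
        have hcomm : ∀ (E : Subgroup G), Cfsg.IsElementaryAbelian 2 E → E ≤ P → ∀ y ∈ E,
            (∀ w ∈ W, ρ y w + w ∈ F) → ∀ a ∈ E, ∀ w ∈ W,
            ρ y (ρ a w) + ρ a w = ρ y w + w := by
          intro E hE hEP y hy hyF a ha w hw
          have h := hFfix a (hEP ha) _ (hyF w hw)
          rw [map_add, ← rho_mul, el_comm hE ha hy, rho_mul] at h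
          exact h
        refine sup_le (fun a ha => ⟨hAP ha, hcomm A hA.1.1 hAP x hx.1
          (fun w hw => hmove x (hBRc hx) w hw) a ha⟩) (fun a ha => ⟨(cj_le_iff hg0).mpr hAP ha,
            fun w hw => ?_⟩)
        rw [he _ (apply_mem_of_stab (hWP ((cj_le_iff hg0).mpr hAP ha)) hw), he w hw]
        exact hcomm A' (el_cj hA.1.1 g0) ((cj_le_iff hg0).mpr hAP) x'
          (Subgroup.pointwise_smul_le_pointwise_smul_iff.mpr hBA hx')
          (fun w hw => hmove x' (hB'Rc hx') w hw) a ha w hw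
      intro w hw
      have h3 : W ≤ LinearMap.ker (ρ x + LinearMap.id) := by
        refine Finset.sup_le fun h _ => ?_
        rintro _ ⟨u, hu, rfl⟩
        show ρ x (ρ (h : G) u) + ρ (h : G) u = 0
        rw [((hgen0.trans hinv) h.2).2 u (hW0W hu), hAW hx.1 u hu, add_self_zero]
      have h4 : ρ x w + w = 0 := h3 hw
      rw [← neg_eq_self w]
      exact eq_neg_of_add_eq_zero_left (by rw [neg_eq_self]; exact h4)
    have h3 := pairing_gap hWP hW1P hW1W hRcP hRcn hmove (fun r hr w hw => hw.2 r hr)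
      (fun E hE hne => (HR E hE).2 hne) hcov hN1 hNW
    have hspos : 0 < (fixg ρ W).relIndex Rc := Nat.pos_of_ne_zero (Subgroup.index_ne_zero_of_finite (H := (fixg ρ W).subgroupOf Rc))
    refine lt_irrefl (Nat.card W * Nat.card N') ?_
    calc Nat.card W * Nat.card N' ≤ (b * kA) ^ 2 * Nat.card W1 * Nat.card N' :=
          Nat.mul_le_mul_right _ h2
      _ = (b * b) * (Nat.card W1 * (kA ^ 2 * Nat.card N')) := by ring
      _ ≤ (fixg ρ W).relIndex Rc * (Nat.card W1 * (kA ^ 2 * Nat.card N')) :=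
          Nat.mul_le_mul_right _ hs
      _ < (fixg ρ W).relIndex Rc * (Nat.card W1 * Nat.card N) :=
          Nat.mul_lt_mul_of_pos_left (Nat.mul_lt_mul_of_pos_left hsq Nat.card_pos) hspos
      _ = (fixg ρ W).relIndex Rc * Nat.card N * Nat.card W1 := by ring
      _ ≤ Nat.card W * Nat.card N' := h3

end Cfsg.Agent.Invol.NoOff
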