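import Cfsg.Agent.Lib.Invol.NoOff.Image
import Cfsg.Agent.Lib.Invol.NoOff.Parabolic

/-!
The two cases of a smallest group with an offender.
-/

set_option autoImplicit false
set_option linter.unusedSectionVars false
set_option linter.style.haveILetI false

namespace Cfsg.Agent.Invol.NoOff

open Subgroup Cfsg.Agent.Block.SFour
open scoped Pointwise

universe u v

variable {G : Type u} [Group G] [Finite G] {V : Type v} [AddCommGroup V] [Module (ZMod 2) V]
  [Finite V] {ρ : Representation (ZMod 2) G V}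

theorem inf_stab_bot (H : Subgroup G) : H ≤ stab ρ (⊥ : Submodule (ZMod 2) V) := fun _ _ =>
  mem_stab_of_forall fun u hu => by
    rw [Submodule.mem_bot] at hu; rw [hu, map_zero]; exact Submodule.zero_mem _

theorem card_lt_of_ne_top {H : Subgroup G} (h : H ≠ ⊤) : Nat.card H < Nat.card G := by
  refine lt_of_le_of_ne (Nat.card_le_card_of_injective _ H.subtype_injective) fun e => h ?_
  exact Subgroup.eq_top_of_card_eq H e

theorem not_top_le_normalizer (hpc : Cfsg.pCore 2 G = ⊥) {D : Subgroup G} (hD : IsPGroup 2 D)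
    (hne : D ≠ ⊥) : ¬ (⊤ : Subgroup G) ≤ normalizer (D : Set G) := fun h => by
  haveI : D.Normal := Subgroup.normalizer_eq_top_iff.mp (top_le_iff.mp h)
  exact hne (le_bot_iff.mp (hpc ▸ Grp.le_pCore inferInstance hD))

theorem ne_bot_of_minOff_le {A D : Subgroup G} (hA : MinOff ρ A) (h : A ≤ D) : D ≠ ⊥ :=
  fun e => hA.1.2.1 (le_bot_iff.mp (e ▸ h))

theorem jgen_isPGroup {D : Subgroup G} (hD : IsPGroup 2 D) : IsPGroup 2 (jgen ρ D) :=
  hD.to_le (jgen_le D)

/-- Conjugation back. -/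
theorem inv_cj_cj (g : G) (H : Subgroup G) : MulAut.conj g⁻¹ • MulAut.conj g • H = H := by
  rw [smul_smul, ← map_mul, inv_mul_cancel, map_one, one_smul]

set_option maxHeartbeats 1000000 in
/-- All subgroups over an offender lie in one maximal subgroup. -/
theorem case_one (IH : NoOffBelow.{u, v} (Nat.card G)) (hnt : NoThree G)
    (hfaith : Function.Injective ρ) (hfix0 : fixd ρ (⊤ : Subgroup G) = ⊥)
    (hfull : ∀ U : Submodule (ZMod 2) V, (⊤ : Subgroup G) ≤ stab ρ U →
      (∀ (g : G) (v : V), ρ g v + v ∈ U) → U = ⊤)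
    (hpc : Cfsg.pCore 2 G = ⊥) {A S M : Subgroup G} (hS : Grp.IsSylowIn 2 S ⊤) (hA : MinOff ρ A)
    (hAS : A ≤ S) (hgen : ∀ L : Subgroup G, (∀ g : G, MulAut.conj g • A ≤ L) → L = ⊤)
    (hM : M ≠ ⊤) (hZ : fixg ρ (fixd ρ S) ≤ M) (hN : normalizer (jgen ρ S : Set G) ≤ M) : False := by
  haveI : Fact (Nat.Prime 2) := ⟨Nat.prime_two⟩
  have hSM : S ≤ M := (Subgroup.le_normalizer.trans (normalizer_le_jgen (ρ := ρ) S)).trans hN
  have hnotM : ¬ (⊤ : Subgroup G) ≤ M := fun h => hM (top_le_iff.mp h)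
  have huniq : ∀ E, MinOff ρ E → E ≤ M → ∀ H, H < ⊤ → E ≤ H → H ≤ M := by
    intro E hE hEM H hH hEH
    refine le_of_mem_le le_top hSM hS (MinOff ρ) (fun g _ A hA => hA.cj g) (fun A hA => hA.isPGroup)
      ?_ ?_ hE hEM hH hEH
    · rintro D hD ⟨B, hB, hBD⟩
      exact not_top_le_normalizer hpc (hS.2.1.to_le hD) (ne_bot_of_minOff_le hB hBD)
    · rintro D hDS ⟨B, hB, hBD⟩ H hH hD hup
      set U := ⨆ h : H, (fixd ρ D).map (ρ (h : G))
      have hUH : H ≤ stab ρ U := by
        intro x hx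
        refine mem_stab_of_forall fun u hu => ?_
        have h1 : U ≤ U.comap (ρ x) := by
          refine iSup_le fun h => ?_
          rintro _ ⟨w, hw, rfl⟩
          refine Submodule.mem_iSup_of_mem (⟨x, hx⟩ * h) ⟨w, hw, ?_⟩
          rw [Subgroup.coe_mul, rho_mul]
        exact h1 hu
      set K := fixg ρ U ⊓ H
      have hKM : K ≤ M := by
        refine le_trans inf_le_left (le_trans (fixg_anti ?_) hZ)
        intro w hw
        exact Submodule.mem_iSup_of_mem (⟨1, H.one_mem⟩ : H)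
          ⟨w, fixd_anti hDS hw, by rw [map_one]; rfl⟩
      have hall : ∀ E, MinOff ρ E → E ≤ D → E ≤ D ⊓ K := fun E hE hED => le_inf hED (le_inf
        (hE.fixes IH hnt (card_lt_of_ne_top hH.ne) hUH (coreFree_orbit (ρ := ρ) hD) (hED.trans hD.1))
        (hED.trans hD.1))
      have hKn : H ≤ normalizer (K : Set G) := by
        intro x hx
        rw [Grp.mem_normalizer_iff_smul, Subgroup.smul_inf, Subgroup.conj_smul_eq_self_of_mem hx,
          Grp.mem_normalizer_iff_smul.mp (stab_le_normalizer_fixg (hUH hx))]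
      refine le_of_frattini inf_le_right hKn (sylowIn_inf_normal inf_le_right hKn hD) hKM ?_
      refine le_trans (inf_le_right.trans (normalizer_le_jgen (ρ := ρ) (D ⊓ K))) ?_
      rw [jgen_eq_of_forall inf_le_left hall]
      rcases hDS.eq_or_lt with rfl | hlt
      · exact hN
      · refine hup _ (lt_inf_norm hS.2.1 hlt) inf_le_left _ ?_
          (inf_le_right.trans (normalizer_le_jgen (ρ := ρ) D))
        exact lt_top_iff_ne_top.mpr fun e => not_top_le_normalizer hpc
          (jgen_isPGroup (hS.2.1.to_le hDS)) (ne_bot_of_minOff_le hB (le_jgen hB hBD)) e.ge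
  have hAM : A ≤ M := hAS.trans hSM
  -- two conjugates generating everything
  have hpair : ∀ g : G, ¬ MulAut.conj g • A ≤ M → A ⊔ MulAut.conj g • A = ⊤ := fun g hg => by
    by_contra h
    exact hg (le_sup_right.trans (huniq A hA hAM _ (lt_top_iff_ne_top.mpr h) le_sup_left))
  obtain ⟨g, hg⟩ : ∃ g : G, ¬ MulAut.conj g • A ≤ M := by
    by_contra hcon
    push Not at hcon
    exact hM (hgen M hcon)
  set A' := MulAut.conj g • A with hA'
  have hgenA : A ⊔ A' = ⊤ := hpair g hg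
  have hA'off : MinOff ρ A' := hA.cj g
  have hinter : fixd ρ A ⊓ fixd ρ A' = ⊥ := by
    rw [eq_bot_iff, ← hfix0, ← hgenA]
    exact fixd_inf_le_sup A A'
  have hsum : fixd ρ A ⊔ fixd ρ A' = ⊤ := by
    have hstab : (⊤ : Subgroup G) ≤ stab ρ (fixd ρ A ⊔ fixd ρ A') := by
      rw [← hgenA]
      refine sup_le (fun a ha => mem_stab_of_forall fun v hv => ?_)
        (fun a ha => mem_stab_of_forall fun v hv => ?_) <;>
        rw [show ρ a v = (ρ a v + v) + v by rw [add_assoc, add_self_zero, add_zero]]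
      · exact Submodule.add_mem _ (Submodule.mem_sup_left (hA.quadratic ha v)) hv
      · exact Submodule.add_mem _ (Submodule.mem_sup_right (hA'off.quadratic ha v)) hv
    refine hfull _ hstab fun x v => ?_
    have h1 : (⊤ : Subgroup G) ≤ kern ρ ⊤ (fixd ρ A ⊔ fixd ρ A') ⊤ := by
      have htop : (⊤ : Subgroup G) ≤ stab ρ (⊤ : Submodule (ZMod 2) V) := fun y _ =>
        mem_stab_of_forall fun _ _ => Submodule.mem_top
      conv_lhs => rw [← hgenA]
      exact sup_le
        (fun a ha => (mem_kern hstab htop).mpr ⟨mem_top _, fun w _ =>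
          Submodule.mem_sup_left (hA.quadratic ha w)⟩)
        (fun a ha => (mem_kern hstab htop).mpr ⟨mem_top _, fun w _ =>
          Submodule.mem_sup_right (hA'off.quadratic ha w)⟩)
    exact (h1 (mem_top x)).2.2 v Submodule.mem_top
  -- fixed points of single elements
  have hcore : ∀ a ∈ A, a ≠ 1 → ∃ x : G, x⁻¹ * a * x ∉ M := by
    intro a ha ha1
    by_contra hcon
    push Not at hcon
    set N := M.normalCore
    haveI : N.Normal := Subgroup.normalCore_normal M
    have haN : a ∈ N := fun x => by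
      have := hcon x⁻¹
      rwa [inv_inv] at this
    have hNn : (⊤ : Subgroup G) ≤ normalizer (N : Set G) :=
      (Subgroup.normalizer_eq_top (H := N)).ge
    have hD := sylowIn_inf_normal le_top hNn hS
    refine hnotM (le_of_frattini le_top hNn hD (Subgroup.normalCore_le M) ?_)
    have hSn : S ≤ normalizer ((S ⊓ N : Subgroup G) : Set G) := fun s hs => by
      rw [Grp.mem_normalizer_iff_smul, Subgroup.smul_inf, Subgroup.conj_smul_eq_self_of_mem hs,
        Grp.mem_normalizer_iff_smul.mp (hNn (mem_top s))]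
    rw [top_inf_eq]
    refine huniq A hA hAM _ (lt_top_iff_ne_top.mpr fun e => ?_) (hAS.trans hSn)
    refine not_top_le_normalizer hpc hD.2.1 (fun e' => ha1 ?_) e.ge
    exact Subgroup.mem_bot.mp (e' ▸ ⟨hAS ha, haN⟩)
  have hCa : ∀ a ∈ A, a ≠ 1 → ∀ v, ρ a v = v → v ∈ fixd ρ A := by
    intro a ha ha1 v hv
    obtain ⟨x, hx⟩ := hcore a ha ha1
    have hgx : A ⊔ MulAut.conj x • A = ⊤ := by
      by_contra h
      set H := A ⊔ MulAut.conj x • A
      have hH : H < ⊤ := lt_top_iff_ne_top.mpr h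
      have h1 : MulAut.conj x⁻¹ • H ≤ M := by
        refine huniq A hA hAM _ (cj_lt_of_mem (mem_top _) hH) ?_
        conv_lhs => rw [← inv_cj_cj x A]
        exact Subgroup.pointwise_smul_le_pointwise_smul_iff.mpr le_sup_right
      refine hx (h1 ?_)
      have h2 := conj_mem_cj (g := x⁻¹) (le_sup_left (b := MulAut.conj x • A) ha : a ∈ H)
      rwa [inv_inv] at h2
    set A'' := MulAut.conj x • A
    have hsum' : v ∈ fixd ρ A ⊔ fixd ρ A'' := by
      have hi : fixd ρ A ⊓ fixd ρ A'' = ⊥ := by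
        rw [eq_bot_iff, ← hfix0, ← hgx]
        exact fixd_inf_le_sup A A''
      have hc := card_sup_mul_inf (fixd ρ A) (fixd ρ A'')
      have hc' := card_sup_mul_inf (fixd ρ A) (fixd ρ A')
      rw [hi, fixd_cj, card_map_rho] at hc
      rw [hinter, hsum, card_top', hA', fixd_cj, card_map_rho] at hc'
      have htop : fixd ρ A ⊔ fixd ρ A'' = ⊤ := by
        refine eq_top_iff.mpr ?_
        by_contra hne
        have hlt := card_lt (lt_top_iff_ne_top.mpr fun e => hne e.ge :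
          fixd ρ A ⊔ fixd ρ A'' < ⊤)
        rw [card_top', fixd_cj] at hlt
        have := Nat.mul_lt_mul_of_pos_right hlt (Nat.card_pos (α := (⊥ : Submodule (ZMod 2) V)))
        rw [hc, hc'] at this
        exact lt_irrefl _ this
      rw [htop]; exact Submodule.mem_top
    obtain ⟨p, hp, q, hq, rfl⟩ := Submodule.mem_sup.mp hsum'
    rw [map_add, hp a ha] at hv
    have hqa : ρ a q = q := add_left_cancel hv
    -- `q` is fixed by everything
    set H := fixg ρ (Submodule.span (ZMod 2) {q})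
    have hmemH : ∀ y : G, ρ y q = q → y ∈ H := fun y hy u hu => by
      obtain ⟨c, rfl⟩ := Submodule.mem_span_singleton.mp hu
      rw [map_smul, hy]
    have hHtop : H = ⊤ := by
      by_contra h
      have h1 : MulAut.conj x⁻¹ • H ≤ M := by
        refine huniq A hA hAM _ (cj_lt_of_mem (mem_top _) (lt_top_iff_ne_top.mpr h)) ?_
        conv_lhs => rw [← inv_cj_cj x A]
        exact Subgroup.pointwise_smul_le_pointwise_smul_iff.mpr fun y hy => hmemH y (hq y hy)
      refine hx (h1 ?_)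
      have h2 := conj_mem_cj (g := x⁻¹) (hmemH a hqa)
      rwa [inv_inv] at h2
    have hq0 : q ∈ fixd ρ (⊤ : Subgroup G) := fun y _ =>
      (hHtop ▸ mem_top y : y ∈ H) q (Submodule.subset_span rfl)
    rw [hfix0, Submodule.mem_bot] at hq0
    rw [hq0, add_zero]
    exact hp
  have hCb : ∀ b ∈ A', b ≠ 1 → ∀ v, ρ b v = v → v ∈ fixd ρ A' := by
    intro b hb hb1 v hv
    rw [hA', fixd_cj]
    refine ⟨ρ g⁻¹ v, hCa _ (mem_cj.mp hb) (fun h => hb1 ?_) _ ?_, rho_apply_inv ρ g v⟩
    · calc b = g * (g⁻¹ * b * g) * g⁻¹ := by group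
        _ = 1 := by rw [h]; group
    · rw [rho_mul, rho_mul, rho_apply_inv, hv]
  -- the three vectors
  have hne : fixd ρ A ≠ ⊥ := by
    intro e
    have : Nonempty (A) := ⟨1⟩
    rw [e, bot_sup_eq, hA', fixd_cj, e, Submodule.map_bot] at hsum
    refine hA.1.2.1 ((Subgroup.eq_bot_iff_forall _).mpr fun a ha => hfaith ?_)
    refine LinearMap.ext fun v => ?_
    have hv : v ∈ (⊥ : Submodule (ZMod 2) V) := hsum ▸ Submodule.mem_top
    rw [(Submodule.mem_bot _).mp hv, map_zero, map_zero]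
  obtain ⟨x, hxC, hx0⟩ := Submodule.exists_mem_ne_zero_of_ne_bot hne
  obtain ⟨b, hb, hb1⟩ := (Subgroup.bot_or_exists_ne_one A').resolve_left hA'off.1.2.1
  set w := ρ b x + x with hw
  have hwC : w ∈ fixd ρ A' := hA'off.quadratic hb x
  have hdisj : ∀ u ∈ fixd ρ A, u ∈ fixd ρ A' → u = 0 := fun u h1 h2 => by
    have h : u ∈ fixd ρ A ⊓ fixd ρ A' := ⟨h1, h2⟩
    rw [hinter] at h
    exact (Submodule.mem_bot _).mp h
  have hw0 : w ≠ 0 := fun h => hx0 (hdisj x hxC (hCb b hb hb1 x (by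
    rw [← neg_eq_self x]
    exact eq_neg_of_add_eq_zero_left (by rw [neg_eq_self]; exact h))))
  obtain ⟨a, ha, haw⟩ : ∃ a ∈ A, ρ a w + w = x := by
    let f : A → fixd ρ A := fun a => ⟨ρ (a : G) w + w, hA.quadratic a.2 w⟩
    have hinj : Function.Injective f := by
      intro a a' h
      by_contra hne'
      have h1 : ρ (a : G) w = ρ (a' : G) w := add_right_cancel (congrArg Subtype.val h)
      have h2 : ρ ((a' : G)⁻¹ * a) w = w := by rw [rho_mul, h1, rho_inv_apply]
      refine hw0 (hdisj w (hCa _ (A.mul_mem (A.inv_mem a'.2) a.2) (fun e => hne' ?_) w h2) hwC)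
      exact Subtype.ext (inv_mul_eq_one.mp e).symm
    have hle : Nat.card (fixd ρ A) ≤ Nat.card A := by
      have h1 := card_sup_mul_inf (fixd ρ A) (fixd ρ A')
      rw [hsum, hinter, card_top', hA', fixd_cj, card_map_rho,
        show Nat.card (⊥ : Submodule (ZMod 2) V) = 1 from Nat.card_unique, mul_one] at h1
      have h2 := hA.1.2.2
      rw [h1] at h2
      exact Nat.le_of_mul_le_mul_right h2 Nat.card_pos
    have hbij : Function.Bijective f :=
      (Nat.bijective_iff_injective_and_card f).mpr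
        ⟨hinj, le_antisymm (Nat.card_le_card_of_injective f hinj) hle⟩
    obtain ⟨a, haf⟩ := hbij.2 ⟨x, hxC⟩
    exact ⟨a, a.2, congrArg Subtype.val haf⟩
  have hbx : ρ b x = x + w := by
    rw [hw, ← add_assoc, add_comm x, add_assoc, add_self_zero, add_zero]
  have haw' : ρ a w = x + w := by
    rw [← haw, add_assoc, add_self_zero, add_zero]
  have hax : ρ a x = x := hxC a ha
  have hbw : ρ b w = w := hwC b hb
  set h := a * b with hh
  have h1 : ρ h x = w := by
    rw [hh, rho_mul, hbx, map_add, hax, haw', ← add_assoc, add_self_zero, zero_add]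
  have h2 : ρ h w = x + w := by rw [hh, rho_mul, hbw, haw']
  have h3 : ρ (h ^ 3) x = x := by
    rw [pow_succ, pow_two, rho_mul, rho_mul, h1, h2, map_add, h1, h2,
      show w + (x + w) = x + (w + w) by abel, add_self_zero, add_zero]
  have hdvd : 3 ∣ orderOf h := by
    by_contra h3n
    have hcop : (3 : ℕ).Coprime (orderOf h) := (Nat.Prime.coprime_iff_not_dvd (by norm_num)).mpr h3n
    obtain ⟨m, hm⟩ := exists_pow_eq_self_of_coprime (x := h) hcop
    have h4 : ∀ k : ℕ, ρ ((h ^ 3) ^ k) x = x := by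
      intro k
      induction k with
      | zero => simp
      | succ k ih => rw [pow_succ, rho_mul, h3, ih]
    have h5 := h4 m
    rw [hm, h1] at h5
    rw [h5] at hw0 h1 haw'
    rw [hax, add_self_zero] at haw'
    exact hx0 haw'
  refine hnt ⟨a, h ^ (orderOf h / 3), ⟨1, by rw [pow_one]; exact hA.1.1.2 a ha⟩, ?_, ?_, ?_⟩
  · rw [← pow_mul, Nat.div_mul_cancel hdvd, pow_orderOf_eq_one]
  · intro e
    have h6 := Nat.le_of_dvd ?_ (orderOf_dvd_of_pow_eq_one e)
    · have := orderOf_pos h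
      omega
    · exact Nat.div_pos (Nat.le_of_dvd (orderOf_pos h) hdvd) (by norm_num)
  · have hinv : a * h * a⁻¹ = h⁻¹ := by
      rw [hh, mul_inv_rev, el_inv hA.1.1 ha, el_inv hA'off.1.1 hb, ← mul_assoc,
        show a * a = 1 by rw [← pow_two]; exact hA.1.1.2 a ha, one_mul]
    rw [← conj_pow, hinv, inv_pow]

/-- The descent inside the stabiliser of `W₀`. -/
theorem le_stab_of_sylow (IH : NoOffBelow.{u, v} (Nat.card G)) (hnt : NoThree G)
    (W0 : Submodule (ZMod 2) V)
    (hW1 : ∀ E, MinOff ρ E → E ≤ stab ρ W0 → E ≤ fixg ρ W0)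
    (hW2 : ∀ E : Subgroup G, IsPGroup 2 E → E ≤ stab ρ W0 → (∀ x ∈ E, x ^ 2 ∈ fixg ρ W0) →
      ¬ E ≤ fixg ρ W0 →
      (fixg ρ W0).relIndex E * Nat.card ↥(W0 ⊓ fixd ρ E) < Nat.card W0) :
    ∀ (m : ℕ) (P T : Subgroup G), Nat.card P = m → P ≠ ⊤ → Grp.IsSylowIn 2 T P → T ≤ stab ρ W0 →
      P ⊓ normalizer (jgen ρ T : Set G) ≤ stab ρ W0 → P ≤ stab ρ W0 := by
  haveI : Fact (Nat.Prime 2) := ⟨Nat.prime_two⟩
  intro m
  induction m using Nat.strong_induction_on with
  | _ m ih =>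
  intro P T hm hPt hT hTS hN
  by_contra hPS
  set R := (Cfsg.pCore 2 P).map P.subtype with hR
  haveI : (Cfsg.pCore 2 P).Normal := Grp.pCore_isNormal
  have hRP : R ≤ P := Subgroup.map_subtype_le _
  have hRn : P ≤ normalizer (R : Set G) := by
    refine (Subgroup.normal_subgroupOf_iff_le_normalizer hRP).mp ?_
    rw [hR, Subgroup.subgroupOf, Subgroup.comap_map_eq_self_of_injective P.subtype_injective]
    infer_instance
  have hR2 : IsPGroup 2 R := Grp.pCore_isPGroup.map _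
  have hRmax : ∀ D ≤ P, IsPGroup 2 D → P ≤ normalizer (D : Set G) → D ≤ R := by
    intro D hDP hD hDn
    haveI : (D.subgroupOf P).Normal := (Subgroup.normal_subgroupOf_iff_le_normalizer hDP).mpr hDn
    rw [← Subgroup.map_subgroupOf_eq_of_le hDP]
    exact Subgroup.map_mono (Grp.le_pCore inferInstance hD.comap_subtype)
  have hRT : R ≤ T := by
    obtain ⟨k, hk, hle⟩ := conj_into hT hRP hR2
    rwa [Grp.mem_normalizer_iff_smul.mp (hRn hk)] at hle
  by_cases hall : ∀ A, MinOff ρ A → A ≤ T → A ≤ R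
  · exact hPS ((le_inf le_rfl (hRn.trans (by
      rw [← jgen_eq_of_forall hRT hall]; exact normalizer_le_jgen R))).trans hN)
  push Not at hall
  obtain ⟨A, hA, hAT, hAR⟩ := hall
  set mem : Subgroup G → Prop := fun E => MinOff ρ E ∧ ¬ E ≤ R
  have hU : ∀ H < P, A ≤ H → H ≤ stab ρ W0 := by
    intro H hH hAH
    refine le_trans (le_of_mem_le (inf_le_left : P ⊓ stab ρ W0 ≤ P) (le_inf hT.1 hTS) hT mem ?_
      (fun E hE => hE.1.isPGroup) ?_ ?_ (A := A) ⟨hA, hAR⟩ (le_inf (hAT.trans hT.1) (hAT.trans hTS))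
      hH hAH) inf_le_right
    · intro g hg E hE
      refine ⟨hE.1.cj g, fun hle => hE.2 ?_⟩
      rw [← Grp.mem_normalizer_iff_smul.mp (hRn hg)] at hle
      exact Subgroup.pointwise_smul_le_pointwise_smul_iff.mp hle
    · rintro D hD ⟨B, hB, hBD⟩ hn
      exact hB.2 (hBD.trans (hRmax D (hD.trans hT.1) (hT.2.1.to_le hD) hn))
    · rintro D hDT ⟨B, hB, hBD⟩ H hH hD hup
      refine le_inf hH.le (ih _ ?_ H D rfl (fun e => ?_) hD (hDT.trans hTS) ?_)
      · rw [← hm]
        by_contra hge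
        exact hH.ne (Subgroup.eq_of_le_of_card_ge hH.le (not_lt.mp hge))
      · exact hPt (top_le_iff.mp (e ▸ hH.le))
      rcases hDT.eq_or_lt with rfl | hlt
      · exact (inf_le_inf_right _ hH.le).trans hN
      · refine le_trans (inf_le_inf_right _ hH.le) (le_trans ?_ (inf_le_right (a := P)))
        refine hup _ (lt_inf_norm hT.2.1 hlt) inf_le_left _ (lt_of_le_of_ne inf_le_left fun e => ?_)
          (inf_le_inf hT.1 (normalizer_le_jgen D))
        exact hB.2 ((le_jgen hB.1 hBD).trans (hRmax _ ((jgen_le D).trans (hDT.trans hT.1))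
          (jgen_isPGroup (hT.2.1.to_le hDT)) (e ▸ inf_le_right)))
  exact parabolic_false IH hnt W0 hW1 hW2 (card_lt_of_ne_top hPt) hT hTS hRT hRn hRmax hA hAT hAR
    hU hPS

/-- The centraliser of the fixed space and the normaliser generate everything. -/
theorem case_two (IH : NoOffBelow.{u, v} (Nat.card G)) (hnt : NoThree G)
    (hfix0 : fixd ρ (⊤ : Subgroup G) = ⊥) (hpc : Cfsg.pCore 2 G = ⊥) [Nontrivial V]
    {A S : Subgroup G} (hS : Grp.IsSylowIn 2 S ⊤) (hA : MinOff ρ A) (hAS : A ≤ S)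
    (hgen : ∀ L : Subgroup G, (∀ g : G, MulAut.conj g • A ≤ L) → L = ⊤)
    (htop : fixg ρ (fixd ρ S) ⊔ normalizer (jgen ρ S : Set G) = ⊤) : False := by
  haveI : Fact (Nat.Prime 2) := ⟨Nat.prime_two⟩
  set J := jgen ρ S
  set NJ := normalizer (J : Set G)
  have hSN : S ≤ NJ := Subgroup.le_normalizer.trans (normalizer_le_jgen S)
  have hNJ : NJ ≠ ⊤ := fun e => not_top_le_normalizer hpc (jgen_isPGroup hS.2.1)
    (ne_bot_of_minOff_le hA (le_jgen hA hAS)) e.ge
  have hJinv : NJ ≤ stab ρ (fixd ρ J) := fun x hx => mem_stab_of_forall fun v hv r hr => by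
    have h1 := congrArg (ρ x) (hv _ (Grp.mem_conj_normalizer' hx hr))
    rwa [rho_mul, rho_mul, rho_apply_inv] at h1
  -- a nonzero fixed vector
  have hfixS : fixd ρ S ≠ ⊥ := by
    obtain ⟨v, -, hv0, hfix⟩ := exists_fixed_mod (ρ := ρ) hS.2.1
      (bot_lt_top : (⊥ : Submodule (ZMod 2) V) < ⊤) (inf_stab_bot S)
      (fun x _ => mem_stab_of_forall fun _ _ => Submodule.mem_top)
    intro e
    refine hv0 (e ▸ fun s hs => ?_)
    exact sub_eq_zero.mp ((Submodule.mem_bot _).mp (hfix s hs))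
  haveI : Finite (Submodule (ZMod 2) V) := Finite.of_injective _ SetLike.coe_injective
  obtain ⟨W0, ⟨hW0J, hW0ne, hW0N⟩, hmin⟩ := Set.exists_min_image
    {X : Submodule (ZMod 2) V | X ≤ fixd ρ J ∧ X ≠ ⊥ ∧ NJ ≤ stab ρ X} (fun X => Nat.card X)
    (Set.toFinite _) ⟨fixd ρ J, le_rfl,
      fun e => hfixS (le_bot_iff.mp (e ▸ fixd_anti (jgen_le S))), hJinv⟩
  have hirr : ∀ X, X ≤ W0 → NJ ≤ stab ρ X → X = ⊥ ∨ X = W0 := fun X hX hXN =>
    or_iff_not_imp_left.mpr fun hne => hX.eq_or_lt.resolve_right fun hlt =>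
      (card_lt hlt).not_ge (hmin X ⟨hX.trans hW0J, hne, hXN⟩)
  have hcore : CoreFree ρ NJ W0 := coreFree_irred hW0N hW0ne hirr
  have hSst : Grp.IsSylowIn 2 S (stab ρ W0) := sylowIn_of_between hS (hSN.trans hW0N) le_top
  have hmove : ∀ E : Subgroup G, ∀ k ∈ stab ρ W0,
      (E ≤ fixg ρ W0 ↔ MulAut.conj k • E ≤ fixg ρ W0) ∧
      (fixg ρ W0).relIndex (MulAut.conj k • E) = (fixg ρ W0).relIndex E ∧
      Nat.card ↥(W0 ⊓ fixd ρ (MulAut.conj k • E)) = Nat.card ↥(W0 ⊓ fixd ρ E) := by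
    intro E k hk
    have hf : MulAut.conj k • fixg ρ W0 = fixg ρ W0 :=
      Grp.mem_normalizer_iff_smul.mp (stab_le_normalizer_fixg hk)
    refine ⟨?_, ?_, ?_⟩
    · conv_rhs => rw [← hf, Subgroup.pointwise_smul_le_pointwise_smul_iff]
    · conv_lhs => rw [← hf, Subgroup.relIndex_pointwise_smul]
    · have hm : W0.map (ρ k) = W0 := le_antisymm
        (by rintro _ ⟨u, hu, rfl⟩; exact apply_mem_of_stab hk hu)
        (fun u hu => ⟨ρ k⁻¹ u, apply_mem_of_stab ((stab ρ W0).inv_mem hk) hu, rho_apply_inv ρ k u⟩)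
      conv_lhs => rw [← hm, ← map_inf_fixd, card_map_rho]
  have hW1 : ∀ E, MinOff ρ E → E ≤ stab ρ W0 → E ≤ fixg ρ W0 := by
    intro E hE hEs
    obtain ⟨k, hk, hle⟩ := conj_into hSst hEs hE.isPGroup
    exact (hmove E k hk).1.mpr ((le_jgen (hE.cj k) hle).trans
      fun x hx u hu => hW0J hu x hx)
  have hW2 : ∀ E : Subgroup G, IsPGroup 2 E → E ≤ stab ρ W0 → (∀ x ∈ E, x ^ 2 ∈ fixg ρ W0) →
      ¬ E ≤ fixg ρ W0 →
      (fixg ρ W0).relIndex E * Nat.card ↥(W0 ⊓ fixd ρ E) < Nat.card W0 := by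
    intro E hE hEs hsq hne
    obtain ⟨k, hk, hle⟩ := conj_into hSst hEs hE
    obtain ⟨e1, e2, e3⟩ := hmove E k hk
    rw [← e2, ← e3]
    refine image_bound IH hnt (card_lt_of_ne_top hNJ) hW0N hcore (hle.trans hSN) ?_
      (fun h => hne (e1.mpr h))
    intro y hy
    have h1 := hsq _ (mem_cj.mp hy)
    have h2 := conj_mem_cj (g := k) h1
    rw [Grp.mem_normalizer_iff_smul.mp (stab_le_normalizer_fixg hk)] at h2
    rwa [show k * (k⁻¹ * y * k) ^ 2 * k⁻¹ = y ^ 2 by rw [pow_two, pow_two]; group] at h2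
  set C0 := fixg ρ (fixd ρ S)
  have hC0 : C0 ≠ ⊤ := by
    intro e
    refine hfixS (le_bot_iff.mp ?_)
    rw [← hfix0]
    exact fun v hv x _ => (e.ge (mem_top x) : x ∈ C0) v hv
  have hSC : S ≤ C0 := fun s hs v hv => hv s hs
  have hC0le : C0 ≤ stab ρ W0 := le_stab_of_sylow IH hnt W0 hW1 hW2 _ C0 S rfl hC0
    (sylowIn_of_between hS hSC le_top) (hSN.trans hW0N) (inf_le_right.trans hW0N)
  have hstab : (⊤ : Subgroup G) ≤ stab ρ W0 := htop ▸ sup_le hC0le hW0N
  have hfix : fixg ρ W0 = ⊤ := hgen _ fun g =>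
    hW1 _ (hA.cj g) fun x _ => hstab (mem_top x)
  refine hW0ne (le_bot_iff.mp ?_)
  rw [← hfix0]
  exact fun v hv x _ => (hfix.ge (mem_top x) : x ∈ fixg ρ W0) v hv

end Cfsg.Agent.Invol.NoOff
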